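import Groth.Prelude.Def_Ref1Cl
import Groth.Agent.S16085
import Groth.Agent.SDiv.K476.Ref1
import Groth.Agent.SDiv.K476.HomSh6
import Groth.Agent.Sga2.StalkGen68
import Groth.Agent.Etcore.DegZero

/-!
# The class group of reflexive modules of rank one

* `law` : the group law on `RefFun.Ref1Set X`;
* `isRef1_invertible`, `isRef1_tensor`, `cls_tensor` : invertible modules, twists by invertible modules;
* `cls_refPow`, `cls_tensorPow`, `cls_dual`, `cls_refTensor`.
-/

set_option autoImplicit false
universe u
open CategoryTheory CategoryTheory.Limits AlgebraicGeometry Opposite TopologicalSpace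

namespace K938.RefCl

open Groth.Agent K476 RefFun RefHull RefPow Fdesc.LocGen

variable {X : Scheme.{u}} [IsIntegral X] [IsLocallyNoetherian X]

/-- The group law. -/
@[reducible] noncomputable def law (hX : Pi1.IsNormalScheme X) : RefFun.Law X := by
  have h := S16085.result X hX
  choose mul h1 using h
  choose one h2 using h1
  choose inv h3 using h2
  obtain ⟨hcomm, hassoc, hone, hinv, hmul, hone', hinv'⟩ := h3
  exact
    { mul := mul
      one := one
      inv := inv
      mul_assoc := hassoc
      one_mul := hone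
      mul_one := fun a => (hcomm a one).trans (hone a)
      inv_mul_cancel := hinv
      mul_comm := hcomm
      mul_val := fun a b => by
        obtain ⟨F, hF, rfl⟩ := exists_eq_cls a
        obtain ⟨G, hG, rfl⟩ := exists_eq_cls b
        exact hmul F G hF hG
      one_val := hone' }

theorem isRef1_of_isInvertible {N : X.Modules} (hN : PicF.IsInvertible N) : IsRef1 N := by
  have hc := Etcore.DegZero.isCoh hN
  refine ⟨hc, (HomSh4.isIso_iff_stalk _).mpr fun x => ?_, (Ref1.genInvertible_iff hc).mpr
    (CycB.ModStalk.exists_isGen hN _)⟩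
  obtain ⟨t, ht⟩ := CycB.ModStalk.exists_isGen hN x
  exact HomSh4.bijective_stalkMapₗ_bidualMap_of_free hc x (Ref1.free_of_isGen ht)

theorem isRef1_tensor {F N : X.Modules} (hF : IsRef1 F) (hN : PicF.IsInvertible N) :
    IsRef1 (CohB1.tensorMod F N) := by
  have hN' := isRef1_of_isInvertible hN
  have hc := Ref1.isCoh_tensorMod hF.1 hN'.1
  refine ⟨hc, (HomSh4.isReflexive_iff_isReflexiveAt hc).mpr fun x => ?_,
    Ref1.genInvertible_tensorMod hF.1 hN'.1 hF.2.2 hN'.2.2⟩
  obtain ⟨e⟩ := Sga2.StalkGen68.nonempty_stalkEquiv_tensor F hN x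
  have h := (HomSh4.isReflexive_iff_isReflexiveAt hF.1).mp hF.2.1 x
  unfold IsReflexiveAt at h ⊢
  exact Module.equiv e

section Law

variable [Law X]

theorem cls_refTensor {F G : X.Modules} (hF : IsRef1 F) (hG : IsRef1 G) :
    cls (refTensor F G) (Ref1.isRef1_refTensor hF hG) = cls F hF * cls G hG :=
  Subtype.ext (cls_mul_cls_val hF hG).symm

theorem cls_one : cls (Coh.structureModule X) Ref1.isRef1_structureModule = (1 : Ref1Set X) :=
  Subtype.ext one_val.symm

theorem cls_refPow {F : X.Modules} (hF : IsRef1 F) (n : ℕ) :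
    cls (refPow F n) (Ref1.isRef1_refPow hF n) = cls F hF ^ n := by
  induction n with
  | zero => rw [pow_zero]; exact cls_one
  | succ n ih =>
    cases n with
    | zero => rw [zero_add, pow_one]; rfl
    | succ n => rw [pow_succ, ← ih]; exact cls_refTensor _ _

theorem cls_tensor {F N : X.Modules} (hF : IsRef1 F) (hN : PicF.IsInvertible N) :
    cls (CohB1.tensorMod F N) (isRef1_tensor hF hN) = cls F hF * cls N (isRef1_of_isInvertible hN) := by
  rw [← cls_refTensor, cls_eq_cls_iff]
  have h := (isRef1_tensor hF hN).2.1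
  exact ⟨@asIso _ _ _ _ (bidualMap (CohB1.tensorMod F N)) h⟩

theorem cls_tensorPow {N : X.Modules} (hN : PicF.IsInvertible N) (n : ℕ) :
    cls (CohB1.tensorPow N n) (isRef1_of_isInvertible (isInvertible_tensorPow hN n)) =
      cls N (isRef1_of_isInvertible hN) ^ n := by
  induction n with
  | zero => rw [pow_zero]; exact cls_one
  | succ n ih => rw [pow_succ, ← ih]; exact cls_tensor _ hN

end Law

end K938.RefCl
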