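import Groth.Agent.RefCh.K939.Abs2
import Groth.Agent.RefCh.K938.RefCl
import Groth.Agent.Pic13.H970.IntForm
import Groth.Agent.Localalg.TopNonvanDim
import Groth.Agent.Fga.MultFinal
import Groth.Agent.Ega3B.Devissage

/-!
# Intersection numbers as functions killing modules supported in codimension `≥ 2`

* `dim_support_lt`;
* `isAdd2_intNum` : `G ↦ ∫ c₁(L_1) ⋯ c₁(L_{n-1}) · [G]` is `IsAdd2`.
-/

set_option autoImplicit false
universe u
open CategoryTheory CategoryTheory.Limits AlgebraicGeometry Opposite TopologicalSpace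

namespace K938.IntF

open Groth.Agent K939.Abs

variable {X : Scheme.{u}}

theorem dim_support_lt [IsLocallyNoetherian X] {d : ℕ} (hd : topologicalKrullDim X = ((d + 1 : ℕ) : WithBot ℕ∞))
    {G : X.Modules} (hG : Coh.IsCoh G)
    (h : ∀ x : X, ringKrullDim (X.presheaf.stalk x) ≤ 1 → Subsingleton (G.presheaf.stalk x)) :
    topologicalKrullDim (CohB1.support G) < (d : WithBot ℕ∞) := by
  have hcl : IsClosed (CohB1.support G) := Ega3B.Devissage.isClosed_support hG
  let I := Scheme.IdealSheafData.vanishingIdeal (⟨CohB1.support G, hcl⟩ : Closeds X)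
  have hr : Set.range I.subschemeι = CohB1.support G := by
    rw [Scheme.IdealSheafData.range_subschemeι, Scheme.IdealSheafData.coe_support_vanishingIdeal]
    rfl
  have hdim : topologicalKrullDim I.subscheme = topologicalKrullDim (CohB1.support G) := by
    rw [← hr]
    exact IsHomeomorph.topologicalKrullDim_eq _
      (I.subschemeι.isClosedEmbedding.isEmbedding.toHomeomorph.isHomeomorph)
  have hs : ∀ y : I.subscheme, ¬ ringKrullDim (X.presheaf.stalk (I.subschemeι y)) ≤ 1 := by
    intro y hy
    have hy' : I.subschemeι y ∈ CohB1.support G := hr ▸ Set.mem_range_self y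
    exact hy' (h _ hy)
  rw [← hdim]
  rcases Localalg.TopNonvanDim.dim_lt I.subschemeι hd hs with he | ⟨d', hd', hle⟩
  · have : topologicalKrullDim I.subscheme = ⊥ := by
      rw [topologicalKrullDim, Order.krullDim_eq_bot_iff]
      refine ⟨fun Z => ?_⟩
      obtain ⟨y, _⟩ := Z.2.nonempty
      exact he.elim y
    rw [this]
    exact WithBot.bot_lt_coe _
  · exact lt_of_le_of_lt hle (by exact_mod_cast hd')

variable (k : Type u) [Field k] [X.Over (Spec (CommRingCat.of k))] [IsProper (X ↘ Spec (CommRingCat.of k))]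

/-- `G ↦ ∫ c₁(L_1) ⋯ c₁(L_r) · [G]`, for `dim X = r + 1`. -/
theorem isAdd2_intNum {r : ℕ} (hd : topologicalKrullDim X = ((r + 1 : ℕ) : WithBot ℕ∞)) (M : Fin r → X.Modules)
    (hM : ∀ i, PicF.IsInvertible (M i)) :
    IsAdd2 (fun G : X.Modules => FGA.intNum k X (r + 1) M G) := by
  have : IsLocallyNoetherian X := LocallyOfFiniteType.isLocallyNoetherian (X ↘ Spec (CommRingCat.of k))
  refine ⟨?_, ?_⟩
  · intro S hS h1 h2 h3
    exact Fga.MultFinal.isAdd_intNum k X (r + 1) hd.le M hM S hS h1 h2 h3
  · intro G hG h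
    exact S3231.result k X (r + 1) hd.le M hM G hG (dim_support_lt hd hG h)

end K938.IntF
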