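import Groth.Agent.RefCh.K938.Inst
import Groth.Agent.RefCh.K939.GenHypIter
import Groth.Agent.RefCh.K939.FlatDual
import Groth.Agent.RefCh.K424.VaRed

/-!
# Descent of the quadratic form from a generic surface section

* `pullCl` : flat pullback on classes of rank one reflexive modules;
* `exists_form` : the quadratic form of `c ↦ ∫ c₁(L_1) ⋯ c₁(L_s) · [c]` for very ample `L_i`.
-/

set_option autoImplicit false
universe u
open CategoryTheory CategoryTheory.Limits AlgebraicGeometry Opposite TopologicalSpace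

namespace K938.Descent

open Groth.Agent K938 K938.RefCl K938.Val RefFun K939 K424.VaRed Filter Topology

section Pull

variable {X Z : Scheme.{u}} [IsIntegral X] [IsLocallyNoetherian X] [IsIntegral Z] [IsLocallyNoetherian Z]
  (j : Z ⟶ X) [Flat j]

/-- Flat pullback of classes. -/
noncomputable def pcl (c : Ref1Set X) : Ref1Set Z :=
  cls ((Scheme.Modules.pullback j).obj (rep c)) (FlatDual.isRef1_pullback (isRef1_rep c))

theorem pcl_cls {F : X.Modules} (hF : RefHull.IsRef1 F) :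
    pcl j (cls F hF) = cls ((Scheme.Modules.pullback j).obj F) (FlatDual.isRef1_pullback hF) := by
  obtain ⟨e⟩ := (cls_eq_cls_iff (isRef1_rep _) hF).1 (cls_rep (cls F hF))
  exact (cls_eq_cls_iff _ _).2 ⟨(Scheme.Modules.pullback j).mapIso e⟩

variable [Law X] [Law Z]

theorem pcl_mul (c d : Ref1Set X) : pcl j (c * d) = pcl j c * pcl j d := by
  obtain ⟨F, hF, rfl⟩ := exists_eq_cls c
  obtain ⟨G, hG, rfl⟩ := exists_eq_cls d
  rw [← cls_refTensor, pcl_cls, pcl_cls, pcl_cls, ← cls_refTensor, cls_eq_cls_iff]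
  exact FlatDual.nonempty_refTensor hF.1 hG.1

/-- Flat pullback as a homomorphism. -/
noncomputable def pullH : Ref1Set X →* Ref1Set Z := MonoidHom.mk' (pcl j) (pcl_mul j)

theorem pullH_cls {F : X.Modules} (hF : RefHull.IsRef1 F) :
    pullH j (cls F hF) = cls ((Scheme.Modules.pullback j).obj F) (FlatDual.isRef1_pullback hF) := pcl_cls j hF

end Pull

/-- The quadratic form of a very ample surface section. -/
theorem exists_form (k : Type u) [Field k] (X : Scheme.{u}) [X.Over (Spec (CommRingCat.of k))]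
    [IsProper (X ↘ Spec (CommRingCat.of k))] [IsIntegral X] [IsLocallyNoetherian X] [Law X]
    (hnorm : Pi1.IsNormalScheme X) {s : ℕ}
    (hdim : topologicalKrullDim X = (s + 2 : ℕ)) (P : Fin s → X.Modules) (hP : ∀ i, VAInv (P i)) :
    ∃ (A B : Type (u + 1)) (_ : CommGroup A) (_ : CommGroup B) (r : ℕ) (S : K424.AbsSurf.Data A B r)
      (θ : Ref1Set X →* B), ∀ c, val (FGA.intNum k X (s + 2) P) c = S.Φ (θ c) := by
  choose L hL hgen hPL using hP
  obtain ⟨K, _, _, Z, _, j, i1, i2, i3, i4, i5, i6, i7, i8, -⟩ :=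
    GenHypIter.exists_surface s 2 k X hnorm hdim L P hL (fun i => VAInv.isInvertible ⟨L i, hL i, hgen i, hPL i⟩)
      hPL hgen
  have : IsLocallyNoetherian Z := LocallyOfFiniteType.isLocallyNoetherian (Z ↘ Spec (CommRingCat.of K))
  let _ : Law Z := law i2
  obtain ⟨D, S, hS, -⟩ := Inst.exists_inst (k := K) i2 (by rw [i4]; rfl)
  refine ⟨_, _, inferInstance, inferInstance, D.r, S, pullH j, fun c => ?_⟩
  obtain ⟨F, hF, rfl⟩ := exists_eq_cls c
  rw [hS, pullH_cls, val_cls Inst.euler_iso,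
    val_cls (fun F G h => Fga.PicMon.intNum_iso k X (s + 2) P h.some), i8 F hF.1 (s + 2) 2 le_rfl le_rfl]
  exact Fga.IntAdd.eulerCharLE_eq K Z 2 (by rw [i4]) _

section Rows

variable {k : Type u} [Field k] {X : Scheme.{u}} [X.Over (Spec (CommRingCat.of k))]
  [IsProper (X ↘ Spec (CommRingCat.of k))] [IsIntegral X] [IsLocallyNoetherian X]

omit [IsProper (X ↘ Spec (CommRingCat.of k))] in
theorem intNum_refPow [Law X] {n s : ℕ} (P : Fin s → X.Modules) {F : X.Modules} (hF : RefHull.IsRef1 F) (m : ℕ) :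
    FGA.intNum k X n P (RefPow.refPow F m) = val (FGA.intNum k X n P) (cls F hF ^ m) := by
  rw [← cls_refPow hF, val_cls (fun F G h => Fga.PicMon.intNum_iso k X n P h.some)]

/-- The limits are the values of the form. -/
theorem eq_q [Law X] {n s : ℕ} {P : Fin s → X.Modules} {A B : Type*} [CommGroup A] [CommGroup B] {r : ℕ}
    {S : K424.AbsSurf.Data A B r} {θ : Ref1Set X →* B} (h : ∀ c, val (FGA.intNum k X n P) c = S.Φ (θ c))
    {F : X.Modules} (hF : RefHull.IsRef1 F) {q : ℝ} (hq : Tendsto (fun m : ℕ => (2 : ℝ) *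
      (FGA.intNum k X n P (RefPow.refPow F m) : ℝ) / ((m : ℝ) ^ 2)) atTop (𝓝 q)) :
    q = ((S.q (θ (cls F hF)) : ℚ) : ℝ) := by
  refine S.eq_q (hq.congr fun m => ?_)
  rw [intNum_refPow P hF m, h, map_pow]

omit [X.Over (Spec (CommRingCat.of k))] [IsProper (X ↘ Spec (CommRingCat.of k))] [IsIntegral X]
  [IsLocallyNoetherian X] in
theorem isInvertible_of_veryAmple {N : ℕ} {ι : X ⟶ CohB1.ProjSpace N k} {L : X.Modules}
    (e : L ≅ (Scheme.Modules.pullback ι).obj (Twist.twistProjSpace N k 1)) : PicF.IsInvertible L :=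
  K475.Rank1.isInvertible_of_iso e.symm (Fdesc.LocGen.isInvertible_pullback ι
    (Ega2.VeryAmpleAmple.isInvertible_twistProjSpace (n := N) (R := k) 1))

/-- Existence of the limits for very ample modules. -/
theorem hasLim (hnorm : Pi1.IsNormalScheme X) {s : ℕ} (hdim : topologicalKrullDim X = (s + 2 : ℕ))
    (P : Fin s → X.Modules) (hP : ∀ i, VAInv (P i)) {F : X.Modules} (hF : RefHull.IsRef1 F) : HasLim k X P F := by
  let _ := law hnorm
  obtain ⟨A, B, _, _, r, S, θ, h⟩ := exists_form k X hnorm hdim P hP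
  refine ⟨S.q (θ (cls F hF)) / 2, (S.lim_half (θ (cls F hF))).congr fun m => ?_⟩
  rw [intNum_refPow P hF m, h, map_pow]

/-- The cube identity for very ample modules. -/
theorem cube (hnorm : Pi1.IsNormalScheme X) {s : ℕ} (hdim : topologicalKrullDim X = (s + 2 : ℕ))
    (P : Fin s → X.Modules) (hP : ∀ i, VAInv (P i)) {L₁ L₂ L₃ : X.Modules} (h₁ : RefHull.IsRef1 L₁)
    (h₂ : RefHull.IsRef1 L₂) (h₃ : RefHull.IsRef1 L₃) : Cube k X P L₁ L₂ L₃ := by
  let _ := law hnorm
  obtain ⟨A, B, _, _, r, S, θ, h⟩ := exists_form k X hnorm hdim P hP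
  have h₁₂ := K476.Ref1.isRef1_refTensor h₁ h₂
  have h₁₃ := K476.Ref1.isRef1_refTensor h₁ h₃
  have h₂₃ := K476.Ref1.isRef1_refTensor h₂ h₃
  have h₁₂₃ := K476.Ref1.isRef1_refTensor h₁₂ h₃
  intro q₁ q₂ q₃ q₁₂ q₁₃ q₂₃ q₁₂₃ k₁ k₂ k₃ k₁₂ k₁₃ k₂₃ k₁₂₃
  rw [eq_q h h₁ k₁, eq_q h h₂ k₂, eq_q h h₃ k₃, eq_q h h₁₂ k₁₂, eq_q h h₁₃ k₁₃, eq_q h h₂₃ k₂₃, eq_q h h₁₂₃ k₁₂₃,
    cls_refTensor h₁₂ h₃, cls_refTensor h₁ h₂, cls_refTensor h₁ h₃, cls_refTensor h₂ h₃, map_mul, map_mul, map_mul,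
    map_mul]
  have := S.cube (θ (cls L₁ h₁)) (θ (cls L₂ h₂)) (θ (cls L₃ h₃))
  exact_mod_cast this

end Rows

end K938.Descent
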