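import Groth.Agent.RefCh.K938.Val
import Groth.Agent.RefCh.K939.Op2
import Groth.Agent.Dix.ProjProper
import Mathlib.Analysis.SpecificLimits.Basic

/-!
# Common set-up for the rows

* `isProper_of_proj`;
* `val_step` : `Φ(c ℓ) - Φ(c) = Ψ(c ℓ)` for the intersection numbers;
* `tendsto_quad` : limits of quadratic functions.
-/

set_option autoImplicit false
universe u
open CategoryTheory CategoryTheory.Limits AlgebraicGeometry Opposite TopologicalSpace

namespace K938.Rows

open Groth.Agent K939.Abs RefFun K938.RefCl K938.Val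

theorem isProper_of_proj {k : Type u} [Field k] {X : Scheme.{u}} [X.Over (Spec (CommRingCat.of k))]
    (hproj : ∃ (N : ℕ) (ι : X ⟶ CohB1.ProjSpace N k), IsClosedImmersion ι ∧
      ι ≫ CohB1.ProjSpace.toSpec N k = X ↘ Spec (CommRingCat.of k)) : IsProper (X ↘ Spec (CommRingCat.of k)) := by
  obtain ⟨N, ι, hι, hιk⟩ := hproj
  have hpr : IsProper (CohB1.ProjSpace.toSpec N k) := Groth.Agent.Dix.ProjProper.isProper_toSpec N k
  rw [← hιk]; infer_instance

section Step

variable (k : Type u) [Field k] {X : Scheme.{u}} [X.Over (Spec (CommRingCat.of k))]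

theorem hiso (n : ℕ) {r : ℕ} (M : Fin r → X.Modules) (F G : X.Modules) (h : Nonempty (F ≅ G)) :
    FGA.intNum k X n M F = FGA.intNum k X n M G :=
  Fga.PicMon.intNum_iso k X n M h.some

/-- `∫ (1 - AB) = ∫ (1 - A) + ∫ (1 - B) - ∫ (1 - A)(1 - B)`. -/
theorem cons_tensor (n : ℕ) {r : ℕ} (M : Fin r → X.Modules) (A B F : X.Modules) :
    FGA.intNum k X n (Fin.cons (CohB1.tensorMod A B) M : Fin (r + 1) → X.Modules) F =
      FGA.intNum k X n (Fin.cons A M : Fin (r + 1) → X.Modules) F +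
        FGA.intNum k X n (Fin.cons B M : Fin (r + 1) → X.Modules) F -
        FGA.intNum k X n (Fin.cons A (Fin.cons B M : Fin (r + 1) → X.Modules) : Fin (r + 2) → X.Modules) F := by
  rw [Fga.PicMon.intNum_cons, Fga.PicMon.intNum_cons, Fga.PicMon.intNum_cons, Fga.PicMon.intNum_cons,
    Fga.PicMon.intNum_cons, Fga.PicMon.intNum_cons]
  have h : FGA.intNum k X n M (CohB1.tensorMod (CohB1.tensorMod A B) F) =
      FGA.intNum k X n M (CohB1.tensorMod B (CohB1.tensorMod A F)) :=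
    Fga.PicMon.intNum_iso k X n M
      (Ega2.Tens.mapTIso (Ega2.Tens.swap A B) (Iso.refl F) ≪≫ Ega2.Tens.assoc B A F)
  rw [h]
  ring

variable [IsIntegral X] [IsLocallyNoetherian X] [Law X]

theorem cls_inv {L L' : X.Modules} (hL : PicF.IsInvertible L) (hL' : PicF.IsInvertible L')
    (h : Nonempty (CohB1.tensorMod L L' ≅ Coh.structureModule X)) :
    cls L' (isRef1_of_isInvertible hL') = (cls L (isRef1_of_isInvertible hL))⁻¹ := by
  have h1 := cls_tensor (isRef1_of_isInvertible hL) hL'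
  have h2 : cls (CohB1.tensorMod L L') (isRef1_tensor (isRef1_of_isInvertible hL) hL') = 1 := by
    rw [← cls_one, cls_eq_cls_iff]; exact h
  rw [h2] at h1
  exact eq_inv_of_mul_eq_one_right h1.symm

theorem val_step (n : ℕ) {r : ℕ} (M : Fin r → X.Modules) {L L' : X.Modules} (hL : PicF.IsInvertible L)
    (hL' : PicF.IsInvertible L') (h : Nonempty (CohB1.tensorMod L L' ≅ Coh.structureModule X)) (c : Ref1Set X) :
    val (FGA.intNum k X n M) (c * cls L (isRef1_of_isInvertible hL)) - val (FGA.intNum k X n M) c =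
      val (FGA.intNum k X n (Fin.cons L' M : Fin (r + 1) → X.Modules)) (c * cls L (isRef1_of_isInvertible hL)) := by
  obtain ⟨F, hF, rfl⟩ := exists_eq_cls c
  rw [← cls_tensor hF hL, val_cls (hiso k n M), val_cls (hiso k n M), val_cls (hiso k n _),
    Fga.PicMon.intNum_cons]
  congr 1
  have h1 := cls_tensor (isRef1_tensor hF hL) hL'
  rw [cls_tensor hF hL, cls_inv hL hL' h, mul_inv_cancel_right, cls_eq_cls_iff] at h1
  obtain ⟨e⟩ := h1
  exact (Fga.PicMon.intNum_iso k X n M e.symm).trans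
    (Fga.PicMon.intNum_iso k X n M (Ega2.Tens.swap _ _))

end Step

open Filter Topology in
theorem tendsto_quad {v : ℕ → ℝ} {q : ℝ} (h : Tendsto (fun m : ℕ => v m / (m : ℝ) ^ 2) atTop (𝓝 q)) (α β γ : ℝ) :
    Tendsto (fun m : ℕ => (v m + α + β * m + γ * (m : ℝ) ^ 2) / (m : ℝ) ^ 2) atTop (𝓝 (q + γ)) := by
  have h1 : Tendsto (fun m : ℕ => v m / (m : ℝ) ^ 2 + α * ((m : ℝ)⁻¹) ^ 2 + β * (m : ℝ)⁻¹ + γ) atTop
      (𝓝 (q + α * (0 : ℝ) ^ 2 + β * 0 + γ)) := by
    have h0 : Tendsto (fun m : ℕ => ((m : ℝ))⁻¹) atTop (𝓝 0) := tendsto_inv_atTop_nhds_zero_nat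
    exact ((h.add ((h0.pow 2).const_mul α)).add (h0.const_mul β)).add_const γ
  rw [show q + α * (0 : ℝ) ^ 2 + β * 0 + γ = q + γ by ring] at h1
  refine h1.congr' ?_
  filter_upwards [eventually_gt_atTop 0] with m hm
  have : (m : ℝ) ≠ 0 := by exact_mod_cast hm.ne'
  field_simp

end K938.Rows
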