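import Groth.Agent.RefCh.K938.RefCl
import Groth.Agent.RefCh.K939.FlatDual
import Groth.Agent.RefCh.K939.Abs
import Groth.Agent.S1690
import Groth.Agent.S1691
import Groth.Agent.CalgA.SerreLocal
import Groth.Agent.SDiv.K475.Rank1
import Groth.Agent.SDiv.K476.RegRef

/-!
# Reflexive modules and big open subsets

* `Big U` : `U` contains all points of codimension `≤ 1`;
* `nonempty_iso_of_pullback` : reflexive modules isomorphic over a big open subset are isomorphic;
* `exists_big_isInvertible` : modules free of rank one in codimension `≤ 1` are invertible on a big open subset.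
-/

set_option autoImplicit false
universe u
open CategoryTheory CategoryTheory.Limits AlgebraicGeometry Opposite TopologicalSpace

namespace K938.BigOpen

open Groth.Agent K476 RefHull K939

variable {X : Scheme.{u}}

/-- `U` contains all points of codimension `≤ 1`. -/
def Big (U : X.Opens) : Prop := ∀ x : X, ringKrullDim (X.presheaf.stalk x) ≤ 1 → x ∈ U

theorem two_le_depth [IsLocallyNoetherian X] (hX : Pi1.IsNormalScheme X) {U : X.Opens} (hU : Big U) (x : X)
    (hx : x ∉ U) : (2 : ℕ∞) ≤ LocCoh.depth (X.presheaf.stalk x) (X.presheaf.stalk x) := by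
  have := (hX x).1
  have := (hX x).2
  exact CalgA.SerreLocal.two_le_depth_of_isIntegrallyClosed fun h => hx (hU x h)

/-- The restriction is the pullback. -/
noncomputable def resIso (U : X.Opens) (F : X.Modules) :
    F.restrict U.ι ≅ (Scheme.Modules.pullback U.ι).obj F :=
  (Scheme.Modules.restrictFunctorIsoPullback U.ι).app F

theorem nonempty_iso_of_restrict [IsIntegral X] [IsLocallyNoetherian X] (hX : Pi1.IsNormalScheme X)
    {F G : X.Modules} (hF : Coh.IsCoh F) (hFr : IsReflexive F) (hG : Coh.IsCoh G) (hGr : IsReflexive G)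
    {U : X.Opens} (hU : Big U) (h : Nonempty (F.restrict U.ι ≅ G.restrict U.ι)) : Nonempty (F ≅ G) := by
  have h1 := (S1691.result X U (two_le_depth hX hU)).1
  have hF1 := h1 F hF ((HomSh4.isReflexive_iff_isReflexiveAt hF).mp hFr)
  have hG1 := h1 G hG ((HomSh4.isReflexive_iff_isReflexiveAt hG).mp hGr)
  exact ⟨@asIso _ _ _ _ _ hF1 ≪≫ (Scheme.Modules.pushforward U.ι).mapIso h.some ≪≫ (@asIso _ _ _ _ _ hG1).symm⟩

theorem nonempty_iso_of_pullback [IsIntegral X] [IsLocallyNoetherian X] (hX : Pi1.IsNormalScheme X)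
    {F G : X.Modules} (hF : Coh.IsCoh F) (hFr : IsReflexive F) (hG : Coh.IsCoh G) (hGr : IsReflexive G)
    {U : X.Opens} (hU : Big U)
    (h : Nonempty ((Scheme.Modules.pullback U.ι).obj F ≅ (Scheme.Modules.pullback U.ι).obj G)) :
    Nonempty (F ≅ G) :=
  nonempty_iso_of_restrict hX hF hFr hG hGr hU ⟨resIso U F ≪≫ h.some ≪≫ (resIso U G).symm⟩

/-! ### The locus where a coherent module is free of rank one -/

open Groth.Agent.CycB.ModStalk in
/-- The open subset where the stalk is free of rank one. -/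
theorem exists_invLocus [IsLocallyNoetherian X] {F : X.Modules} (hF : Coh.IsCoh F) :
    ∃ U : X.Opens, (∀ x : X, x ∈ U ↔ ∃ t, IsGen F x t) ∧ PicF.IsInvertible (F.restrict U.ι) := by
  have h1 : IsOpen {x : X | ∃ t, IsGen F x t} := by
    rw [isOpen_iff_forall_mem_open]
    rintro x ⟨t, ht⟩
    obtain ⟨W, hW, e, he⟩ := K476.Ref1.exists_isGenOn hF ht
    exact ⟨W, fun y hy => ⟨_, he.isGen y hy⟩, W.2, hW⟩
  obtain ⟨U, hU⟩ : ∃ U : X.Opens, ∀ x : X, x ∈ U ↔ ∃ t, IsGen F x t := ⟨⟨_, h1⟩, fun x => Iff.rfl⟩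
  refine ⟨U, hU, ?_⟩
  have hc : Coh.IsCoh (F.restrict U.ι) :=
    (Groth.Agent.CycB.CohProp.coh _).prop_of_iso (resIso U F).symm (FlatDual.isCoh_pullback _ hF)
  refine K476.RegRef.isInvertible_of_isGen hc ?_
  rintro ⟨y, hy⟩
  obtain ⟨t, ht⟩ := (hU y).1 hy
  exact ⟨_, K475.Rank1.isGen_ρo_symm hy ht⟩

open Groth.Agent.CycB.ModStalk in
theorem exists_big_isInvertible [IsLocallyNoetherian X] {F : X.Modules} (hF : Coh.IsCoh F) (h1 : Abs.Inv1 F) :
    ∃ U : X.Opens, Big U ∧ PicF.IsInvertible ((Scheme.Modules.pullback U.ι).obj F) := by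
  obtain ⟨U, hU, hinv⟩ := exists_invLocus hF
  refine ⟨U, fun x hx => (hU x).2 ?_, K475.Rank1.isInvertible_of_iso (resIso U F) hinv⟩
  obtain ⟨e⟩ := h1 x hx
  exact ⟨_, K476.Ref1.exists_generator_of_equiv e.symm⟩

end K938.BigOpen
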