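import Groth.Agent.RefCh.K938.LocGeom
import Groth.Agent.Flat2B.ExtZero
import Groth.Agent.CycB.PureK
import Groth.Agent.VarietyA.CurveTrick
import Groth.Agent.VarietyA.LerayH0
import Groth.Agent.Ega3B.DevQC
import Groth.Agent.FormalB.ModPowAff2
import Groth.Agent.Ega2.TensGen
import Groth.Agent.Ega2.Extend
import Groth.Agent.Dcoh.FlatTor
import Groth.Agent.VarietyB.ExactLoc
import Groth.Agent.VarietyA.StalkCrit
import Mathlib.CategoryTheory.Abelian.DiagramLemmas.KernelCokernelComp

/-!
# The defect of `π_* L` in its extension over the exceptional set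

`π : Y ⟶ X`, `V` open in `Y`. `hull π V G = π_* j_* j^* G`, `j : V → Y`, `toHull : π_* G ⟶ hull`.
`dfct k π V ν` is the length of `H⁰(X, coker toHull)`.

* `dfct_step`, `dfct_bound`, `exists_epi`.
-/

set_option autoImplicit false
universe v u
open CategoryTheory CategoryTheory.Limits AlgebraicGeometry Opposite TopologicalSpace

namespace K938.Defect

open Groth.Agent Groth.Agent.Grpsch.PicGrp Groth.Agent.VarietyA.EulerLES Groth.Agent.Etcore.DegZero
  Groth.Agent.Fdesc.LocGen K938.LocComb K938.LocGeom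

section Abelian

variable {C : Type u} [Category.{v} C] [Abelian C]

/-- `0 → coker f → coker (f ≫ g) → coker g → 0` for a monomorphism `g`. -/
theorem exists_coker_seq {A B D : C} (f : A ⟶ B) (g : B ⟶ D) [Mono g] :
    ∃ (a : cokernel f ⟶ cokernel (f ≫ g)) (b : cokernel (f ≫ g) ⟶ cokernel g) (w : a ≫ b = 0),
      (ShortComplex.mk a b w).ShortExact := by
  have w : cokernel.map f (f ≫ g) (𝟙 _) g (by simp) ≫ cokernel.map (f ≫ g) g f (𝟙 _) (by simp) = 0 := by
    ext
    simp
  refine ⟨_, _, w, ?_⟩
  have h := kernelCokernelCompSequence_exact f g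
  have h3 : (ShortComplex.mk (cokernel.map f (f ≫ g) (𝟙 _) g (by simp)) (cokernel.map (f ≫ g) g f (𝟙 _) (by simp)) w).Exact :=
    h.exact 3
  have h2 := h.exact 2
  have : Mono (cokernel.map f (f ≫ g) (𝟙 _) g (by simp)) := by
    refine h2.mono_g ?_
    apply (isZero_kernel_of_mono g).eq_of_src
  have : Epi (cokernel.map (f ≫ g) g f (𝟙 _) (by simp)) := inferInstance
  exact ShortComplex.ShortExact.mk' h3 ‹_› ‹_›

theorem shortExact_cokernel {A B : C} (f : A ⟶ B) [Mono f] :
    (ShortComplex.mk f (cokernel.π f) (cokernel.condition f)).ShortExact :=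
  ShortComplex.ShortExact.mk' (ShortComplex.exact_cokernel f) ‹_› inferInstance

/-- The cokernel of `X₁ ⟶ X₂` embeds in `X₃` for an exact sequence. -/
theorem mono_cokernel_desc (S : ShortComplex C) (hS : S.Exact) : Mono (cokernel.desc S.f S.g S.zero) :=
  (S.exact_iff_mono_cokernel_desc).mp hS

end Abelian

section Mono

theorem support_push_subset {W X : Scheme.{u}} (g : W ⟶ X) (G : W.Modules) :
    CohB1.support ((Coh.push g).obj G) ⊆ closure (Set.range g) := by
  intro x hx
  by_contra h
  apply hx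
  refine subsingleton_of_forall_eq 0 fun m => ?_
  let C : X.Opens := ⟨(closure (Set.range g))ᶜ, isClosed_closure.isOpen_compl⟩
  obtain ⟨V, hxV, hVU, t, rfl⟩ := VarietyB.ExactLoc.exists_germ_le ((Coh.push g).obj G) (U := C) h m
  have hbot : g ⁻¹ᵁ V = ⊥ := by
    rw [eq_bot_iff]
    intro w hw
    exact absurd (subset_closure (Set.mem_range_self w)) (hVU hw)
  have h1 : ∀ a b : Γ(G, g ⁻¹ᵁ V), a = b := fun a b => by
    refine Ega2.Tens.eq_of_locally_eq G _ _ fun x hx => ?_
    rw [hbot] at hx
    exact hx.elim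
  have h2 : t = 0 := h1 t 0
  rw [h2, map_zero]

theorem unit_mono {Y : Scheme.{u}} [IsIntegral Y] (V : Y.Opens) (hV : (V : Set Y).Nonempty) {L : Y.Modules}
    (hL : PicF.IsInvertible L) : Mono ((Scheme.Modules.restrictAdjunction V.ι).unit.app L) := by
  refine Dcoh.FlatTor.mono_of_app_injective _ fun U => ?_
  rw [Scheme.Modules.restrictAdjunction_unit_app_app]
  by_cases hU : (U : Set Y).Nonempty
  · have h1 : ((V.ι ''ᵁ V.ι ⁻¹ᵁ U : Y.Opens) : Set Y).Nonempty := by
      obtain ⟨y, hyU, hyV⟩ := nonempty_preirreducible_inter U.isOpen V.isOpen hU hV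
      exact ⟨y, ⟨⟨y, hyV⟩, hyU, rfl⟩⟩
    exact VarietyA.CurveTrick.res_injective hL (V.ι.image_preimage_le U) h1
  · have hU' : U = ⊥ := by
      ext y
      simp only [Opens.coe_bot, Set.mem_empty_iff_false, iff_false]
      exact fun hy => hU ⟨y, hy⟩
    subst hU'
    intro a b _
    exact Ega2.Tens.eq_of_locally_eq L _ _ fun x hx => hx.elim

theorem length_H0_le_of_shortExact (k : Type u) [Field k] {X : Scheme.{u}} [X.Over (Spec (CommRingCat.of k))]
    (S : ShortComplex X.Modules) (hS : S.ShortExact) :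
    Module.length k (Coh.HH X S.X₁ 0) ≤ Module.length k (Coh.HH X S.X₂ 0) :=
  Module.length_le_of_injective _ (injectiveA₀ k S hS)

theorem length_H0_le (k : Type u) [Field k] {X : Scheme.{u}} [X.Over (Spec (CommRingCat.of k))]
    {M N : X.Modules} (φ : M ⟶ N) [Mono φ] :
    Module.length k (Coh.HH X M 0) ≤ Module.length k (Coh.HH X N 0) := by
  have h := length_H0_le_of_shortExact k _ (shortExact_cokernel φ)
  exact h

end Mono

variable {X Y : Scheme.{u}} (π : Y ⟶ X) (V : Y.Opens)

/-- `π_* j_* j^* G`. -/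
noncomputable def hull : Y.Modules ⥤ X.Modules :=
  Scheme.Modules.restrictFunctor V.ι ⋙ Scheme.Modules.pushforward V.ι ⋙ Scheme.Modules.pushforward π

/-- `π_* G ⟶ π_* j_* j^* G`. -/
noncomputable def toHull : Scheme.Modules.pushforward π ⟶ hull π V :=
  Functor.whiskerRight (Scheme.Modules.restrictAdjunction V.ι).unit (Scheme.Modules.pushforward π)

/-- The cokernel. -/
noncomputable def Q (G : Y.Modules) : X.Modules := cokernel ((toHull π V).app G)

noncomputable def QIso {G G' : Y.Modules} (e : G ≅ G') : Q π V G ≅ Q π V G' :=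
  cokernel.mapIso _ _ ((Scheme.Modules.pushforward π).mapIso e) ((hull π V).mapIso e)
    ((toHull π V).naturality e.hom).symm

/-- Push forward is left exact. -/
theorem exact_push (S : ShortComplex Y.Modules) (hS : S.ShortExact) :
    (S.map (Scheme.Modules.pushforward π)).Exact := by
  have := hS.mono_f
  have h1 := hS.fIsKernel
  have h2 : IsLimit (KernelFork.ofι ((Scheme.Modules.pushforward π).map S.f)
      (by rw [← Functor.map_comp, S.zero, Functor.map_zero] : _ ≫ (Scheme.Modules.pushforward π).map S.g = 0)) :=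
    isLimitForkMapOfIsLimit' (Scheme.Modules.pushforward π) S.zero h1
  exact ShortComplex.exact_of_f_is_kernel _ h2

theorem mono_toHull [IsIntegral Y] (hV : (V : Set Y).Nonempty) {L : Y.Modules} (hL : PicF.IsInvertible L) :
    Mono ((toHull π V).app L) := by
  have := unit_mono V hV hL
  change Mono ((Scheme.Modules.pushforward π).map ((Scheme.Modules.restrictAdjunction V.ι).unit.app L))
  infer_instance

/-- A monomorphism with cokernel supported off `V` is an isomorphism on `V`. -/
theorem isIso_restrict {A B M : Y.Modules} (f : A ⟶ B) (g : B ⟶ M) (w : f ≫ g = 0)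
    (hS : (ShortComplex.mk f g w).ShortExact) (h : ∀ y ∈ V, y ∉ CohB1.support M) :
    IsIso ((Scheme.Modules.restrictFunctor V.ι).map f) := by
  have := hS.mono_f
  have := hS.epi_g
  have hm : Mono ((Scheme.Modules.restrictFunctor V.ι).map f) := by
    refine Dcoh.FlatTor.mono_of_app_injective _ fun U => ?_
    exact CycB.PureK.app_injective_of_mono f (V.ι ''ᵁ U)
  have h0 : IsZero ((Scheme.Modules.restrictFunctor V.ι).obj M) :=
    Flat2B.ExtZero.isZero_restrict_of_support V.ι fun y => h _ y.2
  have he : Epi ((Scheme.Modules.restrictFunctor V.ι).map f) := by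
    have hc : IsColimit (CokernelCofork.ofπ g w) := hS.gIsCokernel
    have hc' := isColimitCoforkMapOfIsColimit' (Scheme.Modules.restrictFunctor V.ι) w hc
    refine Preadditive.epi_of_cancel_zero _ fun {Z} p hp => ?_
    obtain ⟨l, hl⟩ := CokernelCofork.IsColimit.desc' hc' p hp
    rw [← hl, h0.eq_of_src l 0, comp_zero]
  exact isIso_of_mono_of_epi _

variable (k : Type u) [Field k] [X.Over (Spec (CommRingCat.of k))] [Y.Over (Spec (CommRingCat.of k))]

/-- The defect. -/
noncomputable def dfct (ν : Pic Y) : ℕ∞ :=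
  Quotient.lift (s := isoSetoid Y) (fun L => Module.length k (Coh.HH X (Q π V L.1) 0))
    (fun _ _ ⟨e⟩ => (equivA k (QIso π V e) 0).length_eq) ν

theorem dfct_mk {L : Y.Modules} (hL : PicF.IsInvertible L) :
    dfct π V k (mk L hL) = Module.length k (Coh.HH X (Q π V L) 0) := rfl

variable {k} {r : ℕ} (S : CurveData k Y r)

theorem dfct_step (hπ : π ≫ (X ↘ Spec (CommRingCat.of k)) = Y ↘ Spec (CommRingCat.of k))
    [IsIntegral Y] (hV : (V : Set Y).Nonempty)
    (hc : ∀ j z, S.c j z ∉ V) (j : Fin r) (ν : Pic Y) :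
    dfct π V k (ν * E S j) ≤ dfct π V k ν + hLen k (S.C j) 0 (pull (S.c j) ν) := by
  obtain ⟨L, hL, rfl⟩ := exists_mk ν
  rw [E, mk_mul_mk, dfct_mk, dfct_mk, pull_mk, hLen_mk]
  obtain ⟨M, f, g, w, hT, ⟨e⟩⟩ := exists_shortExact (S.c j) hL
  have hsupp : ∀ y ∈ V, y ∉ CohB1.support M := by
    intro y hy hs
    rw [VarietyA.StalkCrit.support_eq_of_iso e] at hs
    have h1 := support_push_subset (S.c j) _ hs
    rw [(S.c j).isClosedEmbedding.isClosed_range.closure_eq] at h1
    obtain ⟨z, rfl⟩ := h1
    exact hc j z hy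
  have h1 := isIso_restrict V f g w hT hsupp
  have h2 : IsIso ((hull π V).map f) := by
    change IsIso ((Scheme.Modules.pushforward V.ι ⋙ Scheme.Modules.pushforward π).map
      ((Scheme.Modules.restrictFunctor V.ι).map f))
    infer_instance
  have hnat := (toHull π V).naturality f
  have hmono := mono_toHull π V hV hL
  obtain ⟨a, b, w', hT'⟩ := exists_coker_seq ((Scheme.Modules.pushforward π).map f) ((toHull π V).app L)
  have h3 := length_le_of_exact _ _ (exactA₂ k _ hT' 0)
  have e1 : Q π V (CohB1.tensorMod L (ClSub.idealMod (S.c j).ker)) ≅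
      cokernel ((Scheme.Modules.pushforward π).map f ≫ (toHull π V).app L) :=
    (cokernelCompIsIso _ ((hull π V).map f)).symm ≪≫ cokernelIsoOfEq hnat.symm
  rw [(equivA k e1 0).length_eq, add_comm]
  refine h3.trans (add_le_add ?_ le_rfl)
  -- the cokernel of `π_* f` embeds in `π_* M`
  have hex0 : (Scheme.Modules.pushforward π).map f ≫ (Scheme.Modules.pushforward π).map g = 0 := by
    rw [← Functor.map_comp, w, Functor.map_zero]
  have hex : (ShortComplex.mk ((Scheme.Modules.pushforward π).map f) ((Scheme.Modules.pushforward π).map g)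
      hex0).Exact := exact_push π _ hT
  have hm := mono_cokernel_desc _ hex
  have h4 := length_H0_le k (cokernel.desc ((Scheme.Modules.pushforward π).map f) ((Scheme.Modules.pushforward π).map g)
      hex0)
  refine h4.trans ?_
  have hq : Coh.IsQCoh ((Scheme.Modules.pullback (S.c j)).obj L) :=
    Ega2.QCohLocal.isQCoh_of_isInvertible (isInvertible_pullback _ hL)
  obtain ⟨e'⟩ := VarietyB.HHPush.exists_linearEquiv (S.c j) k (S.comm j) _ hq 0
  have h5 := (VarietyA.LerayH0.pushLin π k hπ M).length_eq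
  have h6 := (equivA k e 0).length_eq
  have h7 := e'.length_eq
  exact (h5.trans (h6.trans h7)).le

end K938.Defect
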