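import Groth.Agent.RefCh.K938.Defect

/-!
# Uniform bound for the defect
-/

set_option autoImplicit false
universe v u
open CategoryTheory CategoryTheory.Limits AlgebraicGeometry Opposite TopologicalSpace

namespace K938.Defect

open Groth.Agent Groth.Agent.Grpsch.PicGrp Groth.Agent.VarietyA.EulerLES Groth.Agent.Etcore.DegZero
  Groth.Agent.Fdesc.LocGen K938.LocComb K938.LocGeom

variable {X Y : Scheme.{u}} (π : Y ⟶ X) (V : Y.Opens)
variable {k : Type u} [Field k] [X.Over (Spec (CommRingCat.of k))] [Y.Over (Spec (CommRingCat.of k))]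
  {r : ℕ} (S : CurveData k Y r)

/-- **Uniform bound for the defect.** -/
theorem dfct_bound (hπ : π ≫ (X ↘ Spec (CommRingCat.of k)) = Y ↘ Spec (CommRingCat.of k))
    [IsIntegral Y] (hV : (V : Set Y).Nonempty) (hc : ∀ j z, S.c j z ∉ V)
    (a : Fin r → ℕ) (hoff : ∀ i j, i ≠ j → LocComb.dg (dH S) j (E S i) ≤ 0) (ha : ∀ i, 0 < a i)
    (hpos : ∀ j, 0 < LocComb.dg (dH S) j (tw (E S) a))
    (hserre : ∀ ν, ∃ v, dfct π V k (ν * (tw (E S) v)⁻¹) = 0) (B : ℕ) :
    ∃ K : ℕ, ∀ ν, (∀ j, |LocComb.dg (dH S) j ν| ≤ B) → dfct π V k ν ≤ K := by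
  set N : ℕ := ∑ j, (LocComb.dg (dH S) j (E S j)).natAbs with hN
  have hNj : ∀ j, |LocComb.dg (dH S) j (E S j)| ≤ N := by
    intro j
    rw [Int.abs_eq_natAbs]
    exact_mod_cast Finset.single_le_sum (f := fun j => (LocComb.dg (dH S) j (E S j)).natAbs)
      (fun i _ => Nat.zero_le _) (Finset.mem_univ j)
  have hg : ∀ j μ, LocComb.dg (dH S) j (μ * E S j)⁻¹ = - LocComb.dg (dH S) j μ - LocComb.dg (dH S) j (E S j) := by
    intro j μ
    rw [LocComb.dg_inv, LocComb.dg_mul]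
    ring
  obtain ⟨K, hK⟩ := LocComb.h1_bound (E := E S) (d := dH S) (a := a) (h1 := fun μ => dfct π V k μ⁻¹)
    (g1 := fun j μ => hLen k (S.C j) 0 (pull (S.c j) (μ * E S j)⁻¹)) (c := N + 1)
    hoff ha hpos
    (fun j μ => by
      have h := dfct_step π V S hπ hV hc j (μ * E S j)⁻¹
      have e : (μ * E S j)⁻¹ * E S j = μ⁻¹ := by rw [mul_inv, inv_mul_cancel_right]
      rwa [e] at h)
    (fun j μ h => by
      have h1 : LocComb.dg (dH S) j (μ * E S j)⁻¹ < 0 := by
        rw [hg]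
        have := neg_le_of_abs_le (hNj j)
        omega
      obtain ⟨L, hL, hLe⟩ := exists_mk ((μ * E S j)⁻¹)
      rw [hLe] at h1 ⊢
      rw [dg_mk_eq] at h1
      rw [pull_mk, hLen_mk, Module.length_eq_zero_iff]
      exact LocCurve.h0_zero k (S.C j) (S.dim j) _ (isInvertible_pullback _ hL) h1)
    (fun B => by
      obtain ⟨K, hK⟩ := exists_K S (B + N)
      refine ⟨K, fun j μ h => (hK j _ ?_).1⟩
      rw [hg]
      have h1 := hNj j
      rw [abs_le] at h h1 ⊢
      push_cast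
      constructor <;> omega)
    (fun μ => by
      obtain ⟨v, hv⟩ := hserre μ⁻¹
      refine ⟨v, ?_⟩
      rwa [mul_inv]) B
  refine ⟨K, fun ν h => ?_⟩
  have h1 := hK ν⁻¹ (fun j => by rw [LocComb.dg_inv, abs_neg]; exact h j)
  rwa [inv_inv] at h1

end K938.Defect
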