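import Groth.Agent.RefCh.K938.Defect
import Groth.Agent.Fga.RegSec
import Groth.Agent.PerfA.QCohSerre
import Groth.Agent.Fga.HShift

/-!
# The defect vanishes after a large twist
-/

set_option autoImplicit false
universe v u
open CategoryTheory CategoryTheory.Limits AlgebraicGeometry Opposite TopologicalSpace

namespace K938.Defect

open Groth.Agent Groth.Agent.Fdesc.LocGen Groth.Agent.Ega2 Groth.Agent.Ega2.TensGen Groth.Agent.Ega2.TensPow
  Groth.Agent.Fga.RegSec

variable {X Y : Scheme.{u}} {P : Y.Modules} (s : Coh.structureModule Y ⟶ P) (L : Y.Modules)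

/-- Multiplication by `s^m`. -/
noncomputable def mulP (m : ℕ) : L ⟶ CohB1.tensorMod L (CohB1.tensorPow P m) :=
  mulS (homOf (pow (sec s ⊤) m)) L ≫ (Tens.swap _ _).hom

theorem mulP_app (m : ℕ) {U : Y.Opens} (t : Γ(L, U)) :
    (mulP s L m).app U t = tmul t (pow (sec s U) m) := by
  have h1 : (mulP s L m).app U t = (Tens.swap _ _).hom.app U ((mulS (homOf (pow (sec s ⊤) m)) L).app U t) := rfl
  rw [h1, mulS_app, swap_tmul, sec_homOf, res_pow, res_sec]

theorem app_smul' {M N : X.Modules} (φ : M ⟶ N) {U : X.Opens} (a : Γ(X, U)) (m : Γ(M, U)) :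
    φ.app U (a • m) = a • φ.app U m := φ.app_smul a m

theorem surjective_app (π : Y ⟶ X) [QuasiCompact π] [QuasiSeparated π] (hP : PicF.IsInvertible P) (hL : Coh.IsQCoh L)
    (hcoh : Coh.IsCoh ((hull π (CohB1.genLocus P s)).obj L)) {U : X.Opens} (hU : IsAffineOpen U) :
    ∃ n, ∀ m, n ≤ m → Function.Surjective
      (((toHull π (CohB1.genLocus P s)).app (CohB1.tensorMod L (CohB1.tensorPow P m))).app U) := by
  set V := CohB1.genLocus P s with hV
  have hfin : Module.Finite Γ(X, U) Γ((hull π V).obj L, U) := Ega3B.DevQC.finite_sections hcoh hU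
  obtain ⟨G, hG⟩ := hfin.fg_top
  let O : Y.Opens := V.ι ''ᵁ (V.ι ⁻¹ᵁ (π ⁻¹ᵁ U))
  have hOW : O ≤ π ⁻¹ᵁ U := V.ι.image_preimage_le _
  have hOV : O ≤ V := by
    rintro _ ⟨y, -, rfl⟩
    exact y.2
  have hWVO : π ⁻¹ᵁ U ⊓ V ≤ O := fun y hy => ⟨⟨y, hy.2⟩, hy.1, rfl⟩
  have hc : IsCompact ((π ⁻¹ᵁ U : Y.Opens) : Set Y) := QuasiCompact.isCompact_preimage _ U.2 hU.isCompact
  have hqs : IsQuasiSeparated ((π ⁻¹ᵁ U : Y.Opens) : Set Y) :=
    Scheme.Hom.isQuasiSeparated_preimage π hU.isQuasiSeparated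
  have key : ∀ t : Γ((hull π V).obj L, U), ∃ n, ∀ m, n ≤ m →
      ∃ t' : Γ(CohB1.tensorMod L (CohB1.tensorPow P m), π ⁻¹ᵁ U),
        res _ hOW t' = tmul (show Γ(L, O) from t) (pow (sec s O) m) := by
    intro t
    obtain ⟨n, hn⟩ := Extend.exists_extend hL hP s hc hqs (res L hWVO (show Γ(L, O) from t))
    refine ⟨n, fun m hm => ?_⟩
    obtain ⟨t', ht'⟩ := hn m hm
    refine ⟨t', ?_⟩
    have h1 := congrArg (res _ (le_inf hOW hOV : O ≤ π ⁻¹ᵁ U ⊓ V)) ht'
    rw [res_res, res_tmul, res_pow, res_sec, res_res, res_refl] at h1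
    exact h1
  choose n hn using key
  refine ⟨G.sup n, fun m hm y => ?_⟩
  have hgen : IsGen (sec s O) := by
    have h := (isGen_sec_genLocus s).res hOV
    rwa [res_sec] at h
  -- the submodule of good sections
  obtain ⟨x, hx⟩ : ∃ x : Γ(L, O), (show Γ(CohB1.tensorMod L (CohB1.tensorPow P m), O) from y) =
      tmul x (pow (sec s O) m) := exists_eq_tmul (hgen.pow m) _
  have main : ∀ x : Γ((hull π V).obj L, U), ∃ w : Γ((Scheme.Modules.pushforward π).obj
      (CohB1.tensorMod L (CohB1.tensorPow P m)), U),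
      ((toHull π V).app (CohB1.tensorMod L (CohB1.tensorPow P m))).app U w =
        ((hull π V).map (mulP s L m)).app U x := by
    intro x
    have hx : x ∈ Submodule.span Γ(X, U) (G : Set Γ((hull π V).obj L, U)) := by
      rw [hG]
      exact Submodule.mem_top
    induction hx using Submodule.span_induction with
    | mem t ht =>
      obtain ⟨t', ht'⟩ := hn t m ((Finset.le_sup ht).trans hm)
      refine ⟨t', ?_⟩
      have h1 : ((hull π V).map (mulP s L m)).app U t = (mulP s L m).app O (show Γ(L, O) from t) := rfl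
      rw [h1, mulP_app, ← ht']
      rfl
    | zero => exact ⟨0, by rw [map_zero, map_zero]⟩
    | add a b _ _ ha hb =>
      obtain ⟨a', ha'⟩ := ha
      obtain ⟨b', hb'⟩ := hb
      exact ⟨a' + b', by rw [map_add, map_add, ha', hb']⟩
    | smul c a _ ha =>
      obtain ⟨a', ha'⟩ := ha
      exact ⟨c • a', by rw [app_smul', app_smul', ha']⟩
  obtain ⟨w, hw⟩ := main x
  refine ⟨w, hw.trans ?_⟩
  have h1 : ((hull π V).map (mulP s L m)).app U x = (mulP s L m).app O x := rfl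
  rw [h1, mulP_app]
  exact hx.symm

/-- The defect vanishes after a large twist by `P`. -/
theorem exists_epi [CompactSpace X] (π : Y ⟶ X) [QuasiCompact π] [QuasiSeparated π] [IsLocallyNoetherian Y]
    (hP : PicF.IsInvertible P) (hL : Coh.IsQCoh L)
    (hcoh : Coh.IsCoh ((hull π (CohB1.genLocus P s)).obj L)) :
    ∃ n, Epi ((toHull π (CohB1.genLocus P s)).app (CohB1.tensorMod L (CohB1.tensorPow P n))) := by
  choose n hn using fun U : X.affineOpens => surjective_app s L π hP hL hcoh U.2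
  obtain ⟨T, hT⟩ := isCompact_univ.elim_finite_subcover (fun U : X.affineOpens => (U.1 : Set X)) (fun U => U.1.2)
    (fun x _ => by
      obtain ⟨_, ⟨U, hU, rfl⟩, hxU, -⟩ := X.isBasis_affineOpens.exists_subset_of_mem_open (Set.mem_univ x) isOpen_univ
      exact Set.mem_iUnion.mpr ⟨⟨U, hU⟩, hxU⟩)
  refine ⟨T.sup n, FormalB.ModPowAff2.epi_of_affine_cover ?_ _ fun x => ?_⟩
  · have h1 : Coh.IsQCoh ((CohB1.tensorMod L (CohB1.tensorPow P (T.sup n))).restrict (CohB1.genLocus P s).ι) :=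
      PerfA.QCohSerre.isQCoh_restrict _ (TensGen.isQCoh_tensor hL (isInvertible_tensorPow hP _))
    exact Ega3B.DevQC.isQCoh_push π (Ega3B.DevQC.isQCoh_push _ h1)
  · obtain ⟨U, hU⟩ := Set.mem_iUnion.mp (hT (Set.mem_univ x))
    obtain ⟨hUT, hxU⟩ := Set.mem_iUnion.mp hU
    exact ⟨U.1, hxU, U.2, hn U _ (Finset.le_sup hUT)⟩

theorem length_Q_eq_zero (π : Y ⟶ X) (V : Y.Opens) (G : Y.Modules) (h : Epi ((toHull π V).app G)) (k : Type u) [Field k]
    [X.Over (Spec (CommRingCat.of k))] : Module.length k (Coh.HH X (Q π V G) 0) = 0 := by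
  rw [Module.length_eq_zero_iff]
  exact Fga.HShift.subsingleton_of_isZero (isZero_cokernel_of_epi _) 0

open Grpsch.PicGrp LocComb LocGeom in
/-- Serre vanishing for the defect. -/
theorem dfct_serre [CompactSpace X] (π : Y ⟶ X) [QuasiCompact π] [QuasiSeparated π] [IsLocallyNoetherian Y]
    (hP : PicF.IsInvertible P)
    (hcoh : ∀ L : Y.Modules, PicF.IsInvertible L → Coh.IsCoh ((hull π (CohB1.genLocus P s)).obj L))
    {k : Type u} [Field k] [X.Over (Spec (CommRingCat.of k))] [Y.Over (Spec (CommRingCat.of k))]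
    {r : ℕ} (S : CurveData k Y r) (a : Fin r → ℕ) (hPa : mk P hP = (tw (E S) a)⁻¹) (ν : Pic Y) :
    ∃ v, dfct π (CohB1.genLocus P s) k (ν * (tw (E S) v)⁻¹) = 0 := by
  obtain ⟨L, hL, rfl⟩ := exists_mk ν
  obtain ⟨n, hn⟩ := exists_epi s L π hP (QCohLocal.isQCoh_of_isInvertible hL) (hcoh L hL)
  refine ⟨n • a, ?_⟩
  have h1 : tw (E S) (n • a) = tw (E S) a ^ n := by
    rw [tw, tw, ← Finset.prod_pow]
    refine Finset.prod_congr rfl fun i _ => ?_
    rw [Pi.smul_apply, smul_eq_mul, mul_comm, pow_mul]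
  rw [h1, ← inv_pow, ← hPa, ← mk_tensorPow, mk_mul_mk, dfct_mk]
  exact length_Q_eq_zero π _ _ hn k

end K938.Defect
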