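import Groth.Agent.RefCh.K938.FrobCl
import Groth.Agent.RefCh.K939.Abs2
import Groth.Agent.Grass.K652.LfRank
import Groth.Agent.VBCurve.K707.Base
import Groth.Agent.ShStab.K849.Reflex
import Groth.Agent.OmegaSh.K583.ExtPowPull
import Groth.Agent.SDiv.K476.DivPt
import Groth.Agent.Sga67.TensorOps
import Groth.Agent.Fga.PicMon

/-!
# Determinants of reflexive Frobenius pullbacks

* `exists_big_rank` : a reflexive coherent module on a normal scheme is locally free on a big open subset;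
* `isInvertible_extPow` : the top exterior power of a locally free module is invertible;
* `det_frob` : `det((F^* G)^**) = (det G)^[p]`.
-/

set_option autoImplicit false
universe u
open CategoryTheory CategoryTheory.Limits AlgebraicGeometry Opposite TopologicalSpace

namespace K938.DetFrob

open Groth.Agent K476 RefHull K939 K938.BigOpen K938.RefCl K938.FrobCl RefPow

variable {X : Scheme.{u}}

theorem exists_big_rank [IsIntegral X] [IsLocallyNoetherian X] (hX : Pi1.IsNormalScheme X) {F : X.Modules}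
    (hF : Coh.IsCoh F) (hFr : IsReflexive F) {r : ℕ}
    (hrk : Module.finrank (X.presheaf.stalk (genericPoint X)) (F.presheaf.stalk (genericPoint X)) = r) :
    ∃ U : X.Opens, Big U ∧ FlatMod.IsFinLocFreeOfRank r ((Scheme.Modules.pullback U.ι).obj F) := by
  have hr := (HomSh4.isReflexive_iff_isReflexiveAt hF).1 hFr
  have hb : Big (S1690.freeOpen F) := by
    intro x hx
    by_contra h
    have h2 := S1690.two_le_of_notMem hX F hF hr x h
    have h3 : (2 : WithBot ℕ∞) ≤ 1 := h2.trans hx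
    exact absurd h3 (by decide)
  have hne := nonempty_of_big hb
  refine ⟨S1690.freeOpen F, hb, ?_⟩
  have h1 := K707.Base.isFinLocFreeOfRank_rk (S1690.isFinLocFree_restrict_freeOpen F)
  have h2 := K476.DivPt.finrank_stalk_of_restrict h1 (x := genericPoint X)
    (hb _ (by
      have h : ringKrullDim (X.presheaf.stalk (genericPoint X)) = 0 :=
        ringKrullDim_eq_zero_of_field X.functionField
      rw [h]
      exact zero_le_one))
  rw [hrk] at h2
  rw [← h2] at h1
  exact K652.LfRank.of_iso (resIso _ F) h1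

open Groth.Agent.CycB.ModStalk in
/-- The top exterior power of a locally free module is invertible. -/
theorem isInvertible_extPow [IsLocallyNoetherian X] {r : ℕ} {E W : X.Modules}
    (hE : FlatMod.IsFinLocFreeOfRank r E) (hW : ExtPow.IsExtPow r E W) : PicF.IsInvertible W := by
  have hEc := K707.Base.isCoh_of_rank hE
  have hWc := ExtIdx.isCoh_of_isExtPow hEc hW
  refine K476.RegRef.isInvertible_of_isGen hWc fun x => ?_
  obtain ⟨φ, hφ⟩ := Groth.Agent.Sga67.ExtSheaf.exists_phi hW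
  obtain ⟨U, hU, hxU, -⟩ := exists_isAffineOpen_mem_and_subset (X := X) (x := x) (U := ⊤) trivial
  obtain ⟨τ, -⟩ := ExtStalk.exists_stalkEquiv hEc.1 hWc.1 φ x ⟨U, hU⟩ hxU
  obtain ⟨b⟩ := K707.Base.exists_basis hE x
  exact ⟨_, K476.Ref1.exists_generator_of_equiv
    (τ.trans (LinearEquiv.ofBijective _ (DetLen.topMap_bijective b))).symm⟩

theorem isReflexive_of_rank [IsLocallyNoetherian X] {r : ℕ} {E : X.Modules}
    (hE : FlatMod.IsFinLocFreeOfRank r E) : IsReflexive E := by
  have hEc := K707.Base.isCoh_of_rank hE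
  exact (HomSh4.isIso_iff_stalk _).mpr fun x =>
    HomSh4.bijective_stalkMapₗ_bidualMap_of_free hEc x (K707.Base.free_stalk hE x)

theorem ddual_iso_self {N : X.Modules} (h : IsReflexive N) : Nonempty (ddual N ≅ N) :=
  ⟨(@asIso _ _ _ _ (bidualMap N) h).symm⟩

theorem tensorPow_congr {N N' : X.Modules} (e : N ≅ N') (n : ℕ) :
    Nonempty (CohB1.tensorPow N n ≅ CohB1.tensorPow N' n) := by
  rw [← Fga.PicMon.mc_eq_iff, Fga.PicMon.mc_tensorPow, Fga.PicMon.mc_tensorPow, Fga.PicMon.mc_eq e]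

section Frob

variable [IsIntegral X] [IsLocallyNoetherian X] (p : ℕ) [Fact p.Prime] [FrobSch.IsCharP X p]

/-- The reflexive Frobenius pullback on an open subset where the module is locally free. -/
theorem frob_rank {G G' : X.Modules} (hG : Coh.IsCoh G)
    (hG' : Nonempty (G' ≅ ddual ((Scheme.Modules.pullback (FrobSch.frob X p)).obj G))) {U : X.Opens}
    [FrobSch.IsCharP (U : Scheme.{u}) p] {r : ℕ}
    (hr : FlatMod.IsFinLocFreeOfRank r ((Scheme.Modules.pullback U.ι).obj G)) :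
    Nonempty ((Scheme.Modules.pullback U.ι).obj G' ≅
      (Scheme.Modules.pullback (FrobSch.frob (U : Scheme.{u}) p)).obj ((Scheme.Modules.pullback U.ι).obj G)) := by
  have hc : Coh.IsCoh ((Scheme.Modules.pullback (FrobSch.frob X p)).obj G) := FlatDual.isCoh_pullback _ hG
  obtain ⟨a⟩ := FlatDual.nonempty_ddual (f := U.ι) hc
  obtain ⟨b⟩ := FrobBC.nonempty_pullback_frob U.ι p G
  obtain ⟨c⟩ := ddual_iso_self (isReflexive_of_rank (K652.LfRank.pullback (FrobSch.frob (U : Scheme.{u}) p) hr))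
  exact ⟨(Scheme.Modules.pullback U.ι).mapIso hG'.some ≪≫ a ≪≫ HomSh1.ddualIso b ≪≫ c⟩

theorem det_frob (hX : Pi1.IsNormalScheme X) {G G' W W' : X.Modules} (hG : Coh.IsCoh G)
    (hG' : Nonempty (G' ≅ ddual ((Scheme.Modules.pullback (FrobSch.frob X p)).obj G))) {U : X.Opens}
    (hU : Big U) {r : ℕ}
    (hr : FlatMod.IsFinLocFreeOfRank r ((Scheme.Modules.pullback U.ι).obj G))
    (hW : ExtPow.IsExtPow r G W) (hW' : ExtPow.IsExtPow r G' W') (h1 : IsRef1 (ddual W)) :
    Nonempty (ddual W' ≅ refPow (ddual W) p) := by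
  have := nonempty_of_big hU
  have : FrobSch.IsCharP (U : Scheme.{u}) p := FrobSch.IsCharP.of_hom U.ι p
  have hc : Coh.IsCoh ((Scheme.Modules.pullback (FrobSch.frob X p)).obj G) := FlatDual.isCoh_pullback _ hG
  have hG'c : Coh.IsCoh G' := (CycB.CohProp.coh X).prop_of_iso hG'.some.symm (HomSh4.isCoh_ddual hc)
  have hWc := ExtIdx.isCoh_of_isExtPow hG hW
  have hW'c := ExtIdx.isCoh_of_isExtPow hG'c hW'
  have hWU := K583.ExtPowPull.isExtPow_pullback U.ι hG.1 hW
  have hinv := isInvertible_extPow hr hWU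
  refine nonempty_iso_of_pullback hX (HomSh4.isCoh_ddual hW'c) (Ref1.isReflexive_ddual hW'c)
    (Ref1.isRef1_refPow h1 p).1 (Ref1.isRef1_refPow h1 p).2.1 hU ?_
  obtain ⟨e⟩ := frob_rank p hG hG' hr
  obtain ⟨e1⟩ := Sga67.TensorOps.nonempty_iso_of_isExtPow e (K583.ExtPowPull.isExtPow_pullback U.ι hG'c.1 hW')
    (K583.ExtPowPull.isExtPow_pullback (FrobSch.frob (U : Scheme.{u}) p) (FlatDual.isCoh_pullback U.ι hG).1 hWU)
  obtain ⟨e2⟩ := K818.FrobPow.nonempty_pullback_frob_iso (p := p) hinv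
  obtain ⟨a⟩ := FlatDual.nonempty_ddual (f := U.ι) hW'c
  obtain ⟨a'⟩ := FlatDual.nonempty_ddual (f := U.ι) hWc
  obtain ⟨d⟩ := ddual_iso (Fdesc.LocGen.isInvertible_tensorPow hinv p)
  obtain ⟨d'⟩ := ddual_iso hinv
  obtain ⟨g⟩ := FlatDual.nonempty_refPow (f := U.ι) h1.1 p
  obtain ⟨t⟩ := nonempty_refPow_tensorPow (K475.Rank1.isInvertible_of_iso (a' ≪≫ d').symm hinv) p
  obtain ⟨t'⟩ := tensorPow_congr (a' ≪≫ d') p
  exact ⟨a ≪≫ HomSh1.ddualIso (e1 ≪≫ e2) ≪≫ d ≪≫ t'.symm ≪≫ t.symm ≪≫ g.symm⟩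

open Groth.Agent.CycB.ModStalk in
theorem isRef1_det {δ : X → ℤ} (hδ : Cyc.IsSetup X δ) (hX : Pi1.IsNormalScheme X) {r : ℕ} {F W : X.Modules}
    (hF : Coh.IsCoh F) (hFr : IsReflexive F) (hW : ExtPow.IsExtPow r F W)
    (hrk : Module.finrank (X.presheaf.stalk (genericPoint X)) (F.presheaf.stalk (genericPoint X)) = r) :
    IsRef1 (ddual W) := by
  have hWc := ExtIdx.isCoh_of_isExtPow hF hW
  have h1 := DetCl.inv1_det hδ hX hF hW (K849.Reflex.isTorsionFree_of_reflexive hF hFr) hrk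
  refine Ref1.isRef1_ddual hWc ((Ref1.genInvertible_iff hWc).2 ?_)
  obtain ⟨e⟩ := h1 (genericPoint X) (by
    have h : ringKrullDim (X.presheaf.stalk (genericPoint X)) = 0 :=
      ringKrullDim_eq_zero_of_field X.functionField
    rw [h]
    exact zero_le_one)
  exact ⟨_, K476.Ref1.exists_generator_of_equiv e.symm⟩

/-- The determinants of the reflexive Frobenius pullbacks. -/
theorem seq [RefFun.Law X] {δ : X → ℤ} (hδ : Cyc.IsSetup X δ) (hX : Pi1.IsNormalScheme X) {E : X.Modules}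
    (hE : Coh.IsCoh E) (hEr : IsReflexive E) {r : ℕ}
    (hrk : Module.finrank (X.presheaf.stalk (genericPoint X)) (E.presheaf.stalk (genericPoint X)) = r)
    {G : ℕ → X.Modules} (hG0 : G 0 = E)
    (hG : ∀ m, Nonempty (G (m + 1) ≅ ddual ((Scheme.Modules.pullback (FrobSch.frob X p)).obj (G m)))) :
    ∃ D : RefFun.Ref1Set X, ∀ m, Coh.IsCoh (G m) ∧ IsReflexive (G m) ∧
      Module.finrank (X.presheaf.stalk (genericPoint X)) ((G m).presheaf.stalk (genericPoint X)) = r ∧
      ∃ W : X.Modules, ExtPow.IsExtPow r (G m) W ∧ ∃ h1 : IsRef1 (ddual W), RefFun.cls (ddual W) h1 = D ^ (p ^ m) := by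
  obtain ⟨U, hU, hr⟩ := exists_big_rank hX hE hEr hrk
  have := nonempty_of_big hU
  have : FrobSch.IsCharP (U : Scheme.{u}) p := FrobSch.IsCharP.of_hom U.ι p
  subst hG0
  have hgen : genericPoint X ∈ U := hU _ (by
    have h : ringKrullDim (X.presheaf.stalk (genericPoint X)) = 0 :=
      ringKrullDim_eq_zero_of_field X.functionField
    rw [h]
    exact zero_le_one)
  have key : ∀ m, Coh.IsCoh (G m) ∧ IsReflexive (G m) ∧
      FlatMod.IsFinLocFreeOfRank r ((Scheme.Modules.pullback U.ι).obj (G m)) := by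
    intro m
    induction m with
    | zero => exact ⟨hE, hEr, hr⟩
    | succ m ih =>
      obtain ⟨ih1, ih2, ih3⟩ := ih
      have hc : Coh.IsCoh ((Scheme.Modules.pullback (FrobSch.frob X p)).obj (G m)) :=
        FlatDual.isCoh_pullback _ ih1
      obtain ⟨e⟩ := frob_rank p ih1 (hG m) ih3
      exact ⟨(CycB.CohProp.coh X).prop_of_iso (hG m).some.symm (HomSh4.isCoh_ddual hc),
        HomSh1.isReflexive_of_iso (hG m).some.symm (Ref1.isReflexive_ddual hc),
        K652.LfRank.of_iso e.symm (K652.LfRank.pullback _ ih3)⟩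
  have hrank : ∀ m, Module.finrank (X.presheaf.stalk (genericPoint X))
      ((G m).presheaf.stalk (genericPoint X)) = r := fun m =>
    K476.DivPt.finrank_stalk_of_restrict (K652.LfRank.of_iso (resIso U (G m)).symm (key m).2.2) hgen
  choose W hW using fun m => Dual.H366.ExtQCoh.exists_isExtPow r (key m).1.1
  have h1 : ∀ m, IsRef1 (ddual (W m)) := fun m => isRef1_det hδ hX (key m).1 (key m).2.1 (hW m) (hrank m)
  refine ⟨RefFun.cls (ddual (W 0)) (h1 0), fun m => ⟨(key m).1, (key m).2.1, hrank m, W m, hW m, h1 m, ?_⟩⟩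
  induction m with
  | zero => rw [pow_zero, pow_one]
  | succ m ih =>
    have e := det_frob p hX (key m).1 (hG m) hU (key m).2.2 (hW m) (hW (m + 1)) (h1 m)
    rw [(RefFun.cls_eq_cls_iff (h1 (m + 1)) (Ref1.isRef1_refPow (h1 m) p)).2 e, cls_refPow (h1 m), ih,
      ← pow_mul, ← pow_succ]

end Frob

end K938.DetFrob
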