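import Groth.Agent.RefCh.K938.Defect
import Groth.Agent.Fga.HodgePush
import Groth.Agent.S0042
import Groth.Agent.S0036
import Groth.Agent.S0055
import Groth.Agent.S1525

/-!
# Euler characteristics and a birational morphism with one-dimensional fibres

`ex L = χ(X, π_* L) - χ(Y, L)`; `ex_eq` : it is `h⁰(R¹ π_* L)`; `ex_step`.
-/

set_option autoImplicit false
universe v u
open CategoryTheory CategoryTheory.Limits AlgebraicGeometry Opposite TopologicalSpace

namespace K938.EulerLink

open Groth.Agent Groth.Agent.Grpsch.PicGrp Groth.Agent.VarietyA.EulerLES Groth.Agent.Etcore.DegZero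
  Groth.Agent.Fdesc.LocGen K938.LocComb K938.LocGeom K938.Defect

variable (k : Type u) [Field k]

section General

variable {X : Scheme.{u}} [X.Over (Spec (CommRingCat.of k))] [IsProper (X ↘ Spec (CommRingCat.of k))]

theorem isZero_of_support {M : X.Modules} (h : ∀ x, x ∉ CohB1.support M) : IsZero M :=
  Flat2B.ExtZero.isZero_of_subsingleton fun W => subsingleton_of_forall_eq 0 fun s =>
    FormalA.ExPush.section_eq_zero_of_support M W s fun x _ => h x

theorem finite_HH {F : X.Modules} (hF : Coh.IsCoh F) (i : ℕ) : Module.Finite k (Coh.HH X F i) :=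
  Groth.Agent.S0002.result k X F hF i

/-- `χ = h⁰` for zero-dimensional support. -/
theorem euler_eq {F : X.Modules} (hF : Coh.IsCoh F) (h : topologicalKrullDim (CohB1.support F) ≤ 0) :
    Curv2.euler k X F = Module.finrank k (Coh.HH X F 0) := by
  unfold Curv2.euler
  rw [finsum_eq_single _ 0]
  · simp
  · intro i hi
    have := Fga.HodgeSec.subsingleton_HH_of_support k hF 0 (by exact_mod_cast h) i (Nat.pos_of_ne_zero hi)
    rw [Module.finrank_zero_of_subsingleton]
    simp

theorem euler_add {A B C : X.Modules} (f : A ⟶ B) (g : B ⟶ C) (w : f ≫ g = 0)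
    (h : (ShortComplex.mk f g w).ShortExact) (hA : Coh.IsCoh A) (hB : Coh.IsCoh B) (hC : Coh.IsCoh C) :
    Curv2.euler k X B = Curv2.euler k X A + Curv2.euler k X C := by
  have h1 := S1524.result k X _ h hA hB hC
  exact h1

end General

variable {X Y : Scheme.{u}} [X.Over (Spec (CommRingCat.of k))] [IsProper (X ↘ Spec (CommRingCat.of k))]
  [Y.Over (Spec (CommRingCat.of k))] [IsProper (Y ↘ Spec (CommRingCat.of k))] (π : Y ⟶ X)

/-- The excess. -/
noncomputable def ex (L : Y.Modules) : ℤ :=
  Curv2.euler k X ((Scheme.Modules.pushforward π).obj L) - Curv2.euler k Y L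

theorem support_Rpush [HasInjectiveResolutions Y.Modules] [IsProper π] [IsLocallyNoetherian X] {G : Y.Modules}
    (hG : Coh.IsCoh G) (x : X) (d i : ℕ)
    (hd : topologicalKrullDim (π.fiber x) ≤ d) (hi : d < i) : x ∉ CohB1.support ((Coh.Rpush π i).obj G) := by
  intro hx
  apply hx
  have h := S0042.result π x d hd G hG i hi
  obtain ⟨e⟩ := Ega3B.RpushAbCmp.nonempty_toAb_Rpush_iso π G i
  have e' := (TopCat.Presheaf.stalkFunctor AddCommGrpCat.{u} x).mapIso ((sheafToPresheaf _ _).mapIso e)
  have h2 := h.of_iso e'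
  exact AddCommGrpCat.subsingleton_of_isZero h2

variable (hπ : π ≫ (X ↘ Spec (CommRingCat.of k)) = Y ↘ Spec (CommRingCat.of k))
  (Z : Set X) (hZc : IsClosed Z) (hZ : topologicalKrullDim Z ≤ 0)
  (hf1 : ∀ x : X, topologicalKrullDim (π.fiber x) ≤ (1 : ℕ)) (hf0 : ∀ x : X, x ∉ Z → topologicalKrullDim (π.fiber x) ≤ (0 : ℕ))

include hπ hZ hf1 hf0 in
theorem ex_eq [HasInjectiveResolutions Y.Modules] {G : Y.Modules} (hG : Coh.IsCoh G) :
    ex k π G = Module.finrank k (Coh.HH X ((Coh.Rpush π 1).obj G) 0) := by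
  have hN := VarietyA.TwistExist.isNoetherian k X
  have hp : IsProper π := by
    have : IsProper (π ≫ (X ↘ Spec (CommRingCat.of k))) := by rw [hπ]; infer_instance
    exact IsProper.of_comp π (X ↘ Spec (CommRingCat.of k))
  have h1 := S1525.result k X Y π hπ G hG
  have hs : ∀ i, 2 ≤ i → IsZero ((Coh.Rpush π i).obj G) := fun i hi =>
    isZero_of_support fun x => support_Rpush π hG x 1 i (hf1 x) (by omega)
  have hc := S0036.result π G hG 1
  have hd : topologicalKrullDim (CohB1.support ((Coh.Rpush π 1).obj G)) ≤ 0 := by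
    refine (Fga.DimLt.topologicalKrullDim_mono (B := Z) fun x hx => ?_).trans hZ
    by_contra hxZ
    exact support_Rpush π hG x 0 1 (hf0 x hxZ) one_pos hx
  rw [finsum_eq_sum_of_support_subset (s := {0, 1})] at h1
  · rw [Finset.sum_pair (by norm_num)] at h1
    rw [ex, h1, euler_eq k hc hd]
    have h2 : Curv2.euler k X ((Coh.Rpush π 0).obj G) = Curv2.euler k X ((Scheme.Modules.pushforward π).obj G) :=
      Fga.HodgePush.euler_congr k X ((Scheme.Modules.pushforward π).rightDerivedZeroIsoSelf.app G)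
    rw [h2]
    ring
  · intro i hi
    rw [Function.mem_support] at hi
    by_contra h
    simp only [Finset.coe_insert, Finset.coe_singleton, Set.mem_insert_iff, Set.mem_singleton_iff, not_or] at h
    exact hi (by rw [VarietyA.LerayEuler.euler_eq_zero_of_isZero k X (hs i (by omega)), mul_zero])

variable {r : ℕ} (S : CurveData k Y r) (hcZ : ∀ j z, π (S.c j z) ∈ Z)

include hπ hZ hZc hcZ in
theorem ex_step [IsIntegral Y] (j : Fin r) {L : Y.Modules} (hL : PicF.IsInvertible L) :
    ex k π L ≤ ex k π (CohB1.tensorMod L (ClSub.idealMod (S.c j).ker)) +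
      Module.finrank k (Coh.HH (S.C j) ((Scheme.Modules.pullback (S.c j)).obj L) 1) := by
  have hN := VarietyA.TwistExist.isNoetherian k X
  have hNY := VarietyA.TwistExist.isNoetherian k Y
  have hp : IsProper π := by
    have : IsProper (π ≫ (X ↘ Spec (CommRingCat.of k))) := by rw [hπ]; infer_instance
    exact IsProper.of_comp π (X ↘ Spec (CommRingCat.of k))
  have hI := Dix.IdealModCartier.isInvertible_idealMod (S.eff j)
  have hLI := isInvertible_tensorMod hL hI
  have hP := isInvertible_pullback (S.c j) hL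
  have cL := Fga.HodgeSec.isCoh_of_isInvertible hL
  have cLI := Fga.HodgeSec.isCoh_of_isInvertible hLI
  have cP := Fga.HodgeSec.isCoh_of_isInvertible hP
  obtain ⟨M, f, g, w, hT, ⟨e⟩⟩ := exists_shortExact (S.c j) hL
  have cM : Coh.IsCoh M := Ega3B.DevQC.isCoh_of_iso e.symm (Fga.HodgePush.isCoh_push (S.c j) cP)
  -- on `Y`
  have h1 : Curv2.euler k Y L = Curv2.euler k Y (CohB1.tensorMod L (ClSub.idealMod (S.c j).ker)) + Curv2.euler k Y M :=
    euler_add k f g w hT cLI cL cM
  have h2 : Curv2.euler k Y M = Module.finrank k (Coh.HH (S.C j) ((Scheme.Modules.pullback (S.c j)).obj L) 0) -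
      Module.finrank k (Coh.HH (S.C j) ((Scheme.Modules.pullback (S.c j)).obj L) 1) := by
    rw [Fga.HodgePush.euler_congr k Y e, ← Fga.HodgePush.euler_push k Y (S.C j) (S.c j) (S.comm j) _ cP
      (Fga.HodgePush.acyc_of_isAffineHom _ cP.1), CurvesC.CurveCoh.euler_eq k (S.C j) (S.dim j)]
  -- on `X`
  have hmf := hT.mono_f
  have h3 := shortExact_cokernel ((Scheme.Modules.pushforward π).map f)
  have c1 := Fga.HodgePush.isCoh_push π cLI
  have c2 := Fga.HodgePush.isCoh_push π cL
  have c3 : Coh.IsCoh (cokernel ((Scheme.Modules.pushforward π).map f)) :=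
    CohqB.SerTw.isCoh_cokernel _ c1.1 c2
  have h4 : Curv2.euler k X ((Scheme.Modules.pushforward π).obj L) =
      Curv2.euler k X ((Scheme.Modules.pushforward π).obj (CohB1.tensorMod L (ClSub.idealMod (S.c j).ker))) +
        Curv2.euler k X (cokernel ((Scheme.Modules.pushforward π).map f)) :=
    euler_add k _ _ _ h3 c1 c2 c3
  have hex0 : (Scheme.Modules.pushforward π).map f ≫ (Scheme.Modules.pushforward π).map g = 0 := by
    rw [← Functor.map_comp, w, Functor.map_zero]
  have hex : (ShortComplex.mk ((Scheme.Modules.pushforward π).map f) ((Scheme.Modules.pushforward π).map g)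
      hex0).Exact := exact_push π _ hT
  have hm := mono_cokernel_desc _ hex
  have h5 := length_H0_le k (cokernel.desc ((Scheme.Modules.pushforward π).map f) ((Scheme.Modules.pushforward π).map g)
      hex0)
  have cPM : Coh.IsCoh ((Scheme.Modules.pushforward π).obj M) := Fga.HodgePush.isCoh_push π cM
  have hsub : CohB1.support (cokernel ((Scheme.Modules.pushforward π).map f)) ⊆
      CohB1.support ((Scheme.Modules.pushforward π).obj M) :=
    Ega3B.Devissage.support_subset_of_mono (cokernel.desc ((Scheme.Modules.pushforward π).map f)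
      ((Scheme.Modules.pushforward π).map g) hex0)
  have hsupp : CohB1.support ((Scheme.Modules.pushforward π).obj M) ⊆ Z := by
    rw [VarietyA.StalkCrit.support_eq_of_iso ((Scheme.Modules.pushforward π).mapIso e ≪≫
      (Scheme.Modules.pushforwardComp (S.c j) π).app _)]
    refine (support_push_subset (S.c j ≫ π) _).trans (closure_minimal ?_ hZc)
    rintro _ ⟨z, rfl⟩
    exact hcZ j z
  have h6 := euler_eq k c3 ((Fga.DimLt.topologicalKrullDim_mono (hsub.trans hsupp)).trans hZ)
  have f3 := finite_HH k c3 0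
  have fM := finite_HH k cPM 0
  rw [Module.length_eq_finrank, Module.length_eq_finrank] at h5
  have h7 : Module.finrank k (Coh.HH X ((Scheme.Modules.pushforward π).obj M) 0) =
      Module.finrank k (Coh.HH (S.C j) ((Scheme.Modules.pullback (S.c j)).obj L) 0) := by
    obtain ⟨e'⟩ := VarietyB.HHPush.exists_linearEquiv (S.c j) k (S.comm j) _ cP.1 0
    exact ((VarietyA.LerayH0.pushLin π k hπ M).finrank_eq.trans (equivA k e 0).finrank_eq).trans e'.finrank_eq
  have h8 : Module.finrank k (Coh.HH X (cokernel ((Scheme.Modules.pushforward π).map f)) 0) ≤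
      Module.finrank k (Coh.HH X ((Scheme.Modules.pushforward π).obj M) 0) := by exact_mod_cast h5
  unfold ex
  rw [h4, h1, h2, h6]
  have h9 := Int.ofNat_le.mpr (h8.trans h7.le)
  linarith

/-- The excess vanishes for relatively very positive modules. -/
theorem ex_serre [IsNoetherian X] [IsProper π] {P : Y.Modules} (hP : PicF.IsInvertible P)
    (ha : ∀ W : X.Opens, IsAffineOpen W → CohB1.IsAmple (P.restrict (π ⁻¹ᵁ W).ι))
    (hπ : π ≫ (X ↘ Spec (CommRingCat.of k)) = Y ↘ Spec (CommRingCat.of k)) {L : Y.Modules}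
    (hL : Coh.IsCoh L) : ∃ n₀ : ℕ, ∀ n, n₀ ≤ n → Coh.IsCoh (CohB1.tensorMod L (CohB1.tensorPow P n)) →
      ex k π (CohB1.tensorMod L (CohB1.tensorPow P n)) = 0 := by
  obtain ⟨n₀, hn⟩ := S0055.result π P hP ha L hL
  refine ⟨n₀, fun n h hc => ?_⟩
  rw [ex, Fga.HodgePush.euler_push k X Y π hπ _ hc (fun p hp => hn n h p hp), sub_self]

end K938.EulerLink
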