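import Groth.Agent.RefCh.K938.BigOpen
import Groth.Agent.RefCh.K939.FrobBC
import Groth.Agent.PerfSch.K818.FrobPow

/-!
# Reflexive Frobenius pullback on the class group of rank one reflexive modules

* `nonempty_refPow_tensorPow` : reflexive powers of invertible modules are tensor powers;
* `nonempty_frob_refPow` : `(F^* L)^** ≅ L^[p]` on a normal scheme.
-/

set_option autoImplicit false
universe u
open CategoryTheory CategoryTheory.Limits AlgebraicGeometry Opposite TopologicalSpace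

namespace K938.FrobCl

open Groth.Agent K476 RefHull K939 K938.BigOpen K938.RefCl RefPow K475.GenStalk

variable {X : Scheme.{u}}

theorem isRef1_of_iso [IsIntegral X] [IsLocallyNoetherian X] {F G : X.Modules} (e : F ≅ G) (hF : IsRef1 F) :
    IsRef1 G := by
  have hc : Coh.IsCoh G := (CycB.CohProp.coh X).prop_of_iso e hF.1
  obtain ⟨t, ht⟩ := (Ref1.genInvertible_iff hF.1).1 hF.2.2
  exact ⟨hc, HomSh1.isReflexive_of_iso e hF.2.1, (Ref1.genInvertible_iff hc).2
    ⟨_, K475.Rank1.isGen_map _ (stalkMapₗ e.hom _) (HomSh4.bijective_stalkMapₗ_of_isIso e.hom _) ht⟩⟩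

theorem ddual_iso [IsIntegral X] [IsLocallyNoetherian X] {N : X.Modules} (hN : PicF.IsInvertible N) :
    Nonempty (ddual N ≅ N) :=
  ⟨(@asIso _ _ _ _ (bidualMap N) (isRef1_of_isInvertible hN).2.1).symm⟩

theorem nonempty_refPow_tensorPow [IsIntegral X] [IsLocallyNoetherian X] {N : X.Modules}
    (hN : PicF.IsInvertible N) (m : ℕ) : Nonempty (refPow N m ≅ CohB1.tensorPow N m) := by
  induction m with
  | zero => exact ⟨Iso.refl _⟩
  | succ m ih =>
    cases m with
    | zero =>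
      exact ⟨(Ega2.Tens.lunit N).symm⟩
    | succ m =>
      obtain ⟨e⟩ := ih
      obtain ⟨a⟩ := FlatDual.refTensor_congr e (Iso.refl N)
      obtain ⟨b⟩ := ddual_iso (Fdesc.LocGen.isInvertible_tensorMod (Fdesc.LocGen.isInvertible_tensorPow hN (m + 1)) hN)
      exact ⟨a ≪≫ b⟩

/-- The generic point lies in a big open subset. -/
theorem nonempty_of_big [IsIntegral X] {U : X.Opens} (hU : Big U) : Nonempty U := by
  refine ⟨⟨genericPoint X, hU _ ?_⟩⟩
  have h : ringKrullDim (X.presheaf.stalk (genericPoint X)) = 0 :=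
    ringKrullDim_eq_zero_of_field X.functionField
  rw [h]
  exact zero_le_one

theorem nonempty_frob_refPow [IsIntegral X] [IsLocallyNoetherian X] (hX : Pi1.IsNormalScheme X) {δ : X → ℤ}
    (hδ : Cyc.IsSetup X δ) (p : ℕ) [Fact p.Prime] [FrobSch.IsCharP X p] {L : X.Modules} (hL : IsRef1 L) :
    Nonempty (ddual ((Scheme.Modules.pullback (FrobSch.frob X p)).obj L) ≅ refPow L p) := by
  obtain ⟨U, hU, hinv⟩ := exists_big_isInvertible hL.1 (Abs.inv1_of_ref1 hδ hX hL)
  have := nonempty_of_big hU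
  have : FrobSch.IsCharP (U : Scheme.{u}) p := FrobSch.IsCharP.of_hom U.ι p
  have hc : Coh.IsCoh ((Scheme.Modules.pullback (FrobSch.frob X p)).obj L) := FlatDual.isCoh_pullback _ hL.1
  refine nonempty_iso_of_pullback hX (HomSh4.isCoh_ddual hc) (Ref1.isReflexive_ddual hc)
    (Ref1.isRef1_refPow hL p).1 (Ref1.isRef1_refPow hL p).2.1 hU ?_
  obtain ⟨a⟩ := FlatDual.nonempty_ddual (f := U.ι) hc
  obtain ⟨b⟩ := FrobBC.nonempty_pullback_frob U.ι p L
  obtain ⟨c⟩ := K818.FrobPow.nonempty_pullback_frob_iso (p := p) hinv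
  obtain ⟨d⟩ := ddual_iso (Fdesc.LocGen.isInvertible_tensorPow hinv p)
  obtain ⟨e⟩ := nonempty_refPow_tensorPow hinv p
  obtain ⟨g⟩ := FlatDual.nonempty_refPow (f := U.ι) hL.1 p
  exact ⟨a ≪≫ HomSh1.ddualIso (b ≪≫ c) ≪≫ d ≪≫ e.symm ≪≫ g.symm⟩

end K938.FrobCl
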