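import Groth.Agent.RefCh.K938.IntF

/-!
# Values on the class group of rank one reflexive modules

* `val φ c` : the value of an isomorphism invariant function `φ` on the class `c`;
* `val_mul`, `val_inv` : `IsAdd2` functions are affine on the class group;
* `val_step`, `val_pow_mul` : the quadratic growth of `c ↦ ∫ c₁(L_1) ⋯ c₁(L_{n-2}) · [c]` along invertible directions.
-/

set_option autoImplicit false
universe u
open CategoryTheory CategoryTheory.Limits AlgebraicGeometry Opposite TopologicalSpace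

namespace K938.Val

open Groth.Agent K939.Abs RefFun K938.RefCl

variable {X : Scheme.{u}}

/-- A representative. -/
noncomputable def rep (c : Ref1Set X) : X.Modules := (exists_eq_cls c).choose

theorem isRef1_rep (c : Ref1Set X) : RefHull.IsRef1 (rep c) := (exists_eq_cls c).choose_spec.choose

theorem cls_rep (c : Ref1Set X) : cls (rep c) (isRef1_rep c) = c := (exists_eq_cls c).choose_spec.choose_spec.symm

variable {A : Type*}

/-- The value on a class. -/
noncomputable def val (φ : X.Modules → A) (c : Ref1Set X) : A := φ (rep c)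

theorem val_cls {φ : X.Modules → A} (hφ : ∀ F G : X.Modules, Nonempty (F ≅ G) → φ F = φ G) {F : X.Modules}
    (hF : RefHull.IsRef1 F) : val φ (cls F hF) = φ F :=
  hφ _ _ ((cls_eq_cls_iff (isRef1_rep _) hF).1 (cls_rep _))

section Law

variable [IsIntegral X] [IsLocallyNoetherian X] [Law X] {δ : X → ℤ}

theorem val_mul {B : Type} [AddCommGroup B] {φ : X.Modules → B} (hφ : ∀ F G : X.Modules, Nonempty (F ≅ G) → φ F = φ G) (hX : Cyc.IsSetup X δ)
    (hnorm : Pi1.IsNormalScheme X) (h2 : IsAdd2 φ) (c d : Ref1Set X) :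
    val φ (c * d) + val φ 1 = val φ c + val φ d := by
  obtain ⟨F, hF, rfl⟩ := exists_eq_cls c
  obtain ⟨G, hG, rfl⟩ := exists_eq_cls d
  rw [← cls_refTensor, ← cls_one, val_cls hφ, val_cls hφ, val_cls hφ, val_cls hφ]
  exact refTensor_add hX h2 hF.1 hG.1 (inv1_of_ref1 hX hnorm hF) (inv1_of_ref1 hX hnorm hG)

end Law

section Group

variable {C : Type*} [CommGroup C] (Φ Ψ : C → ℤ) (ℓ : C)

theorem affine_pow (hΨ : ∀ c d : C, Ψ (c * d) + Ψ 1 = Ψ c + Ψ d) (c : C) (m : ℕ) :
    Ψ (c ^ m) = Ψ 1 + m * (Ψ c - Ψ 1) := by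
  induction m with
  | zero => simp
  | succ m ih =>
    have h := hΨ (c ^ m) c
    rw [← pow_succ, ih] at h
    push_cast
    linarith

/-- The growth along an invertible direction. -/
theorem two_mul_pow_mul (hΨ : ∀ c d : C, Ψ (c * d) + Ψ 1 = Ψ c + Ψ d)
    (hΦ : ∀ c : C, Φ (c * ℓ) - Φ c = Ψ (c * ℓ)) (c : C) (m a : ℕ) :
    2 * Φ (c ^ m * ℓ ^ a) = 2 * Φ (c ^ m) + 2 * a * Ψ 1 + 2 * a * m * (Ψ c - Ψ 1) +
      a * (a + 1) * (Ψ ℓ - Ψ 1) := by
  induction a with
  | zero => simp
  | succ a ih =>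
    have h1 := hΦ (c ^ m * ℓ ^ a)
    have h2 := hΨ (c ^ m) (ℓ ^ a * ℓ)
    rw [mul_assoc, ← pow_succ] at h1
    rw [← pow_succ] at h2
    have h3 := affine_pow Ψ hΨ c m
    have h4 := affine_pow Ψ hΨ ℓ (a + 1)
    push_cast at h4 ⊢
    linear_combination ih + 2 * h1 + 2 * h2 + 2 * h3 + 2 * h4

end Group

end K938.Val
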