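import Groth.Agent.RefCh.K939.SurfCl
import Groth.Agent.RefCh.K424.AbsSurf
import Groth.Agent.RefCh.K938.Val
import Groth.Agent.RefCh.K938.EulerLink
import Groth.Agent.Surf.K464.Base

/-!
# The abstract surface data of a normal proper surface over a field

* `dot_E` : intersection numbers with the exceptional curves;
* `exists_inst` : the instance of `K424.AbsSurf.Data`.
-/

set_option autoImplicit false
universe u
open CategoryTheory CategoryTheory.Limits AlgebraicGeometry Opposite TopologicalSpace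

namespace K938.Inst

open Groth.Agent Groth.Agent.Grpsch.PicGrp K938 K938.LocComb K938.LocGeom K464.Base RefFun K939.SurfGeo K939.SurfHull
  K939.SurfCl

section Curve

variable {k : Type u} [Field k] {Y : Scheme.{u}} [Y.Over (Spec (CommRingCat.of k))]
  [IsProper (Y ↘ Spec (CommRingCat.of k))] {r : ℕ} (S : CurveData k Y r)

theorem chi_sub (j : Fin r) (a : Pic Y) :
    chi k Y a - chi k Y (a * LocGeom.E S j) = chi k (S.C j) (pull (S.c j) a) := by
  obtain ⟨L, hL, rfl⟩ := exists_mk a
  have hN := VarietyA.TwistExist.isNoetherian k Y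
  rw [LocGeom.E, mk_mul_mk, chi_mk, chi_mk, pull_mk, chi_mk]
  obtain ⟨M, f, g, w, hT, ⟨e⟩⟩ := exists_shortExact (S.c j) hL
  have hLc := Etcore.DegZero.isCoh hL
  have hc : Coh.IsCoh ((Scheme.Modules.pullback (S.c j)).obj L) :=
    Etcore.DegZero.isCoh (Fdesc.LocGen.isInvertible_pullback (S.c j) hL)
  have hM : Coh.IsCoh M := (CycB.CohProp.coh Y).prop_of_iso e.symm (Fga.HodgePush.isCoh_push (S.c j) hc)
  have h1 := EulerLink.euler_add k f g w hT
    (Etcore.DegZero.isCoh (Fdesc.LocGen.isInvertible_tensorMod hL (Dix.IdealModCartier.isInvertible_idealMod (S.eff j))))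
    hLc hM
  have h2 : Curv2.euler k Y M = Curv2.euler k (S.C j) ((Scheme.Modules.pullback (S.c j)).obj L) :=
    (VarietyA.EulerAdd.euler_congr k e).trans (CurvesC.DegIso.euler_push k (S.c j) (S.comm j) _)
  rw [h1, h2]
  ring

omit [IsProper (Y ↘ Spec (CommRingCat.of k))] in
theorem dg_eq_chi (j : Fin r) (a : Pic Y) :
    LocComb.dg (dH S) j a = chi k (S.C j) (pull (S.c j) a) - chi k (S.C j) 1 := by
  obtain ⟨L, hL, rfl⟩ := exists_mk a
  rw [dg_mk_eq, pull_mk, chi_mk, chi_one, Curv2.deg]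
  push_cast
  ring

theorem dot_E (j : Fin r) (a : Pic Y) : dot k Y (LocGeom.E S j) a = - LocComb.dg (dH S) j a := by
  have h1 := chi_sub S j a
  have h2 := chi_sub S j 1
  rw [one_mul, map_one] at h2
  rw [dg_eq_chi, dot_def, mul_comm (LocGeom.E S j) a]
  linarith

end Curve

section Main

theorem euler_iso {k : Type u} [Field k] {Z : Scheme.{u}} [Z.Over (Spec (CommRingCat.of k))] (F G : Z.Modules)
    (h : Nonempty (F ≅ G)) : Curv2.euler k Z F = Curv2.euler k Z G :=
  VarietyA.EulerAdd.euler_congr k h.some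

variable {k : Type u} [Field k] {Z : Scheme.{u}} [Z.Over (Spec (CommRingCat.of k))]
  [IsProper (Z ↘ Spec (CommRingCat.of k))] [IsIntegral Z] [IsLocallyNoetherian Z] [Law Z]

theorem bound (D : K939.SurfGeo.Data k Z) (hnorm : Pi1.IsNormalScheme Z) (B : ℕ) :
    ∃ K : ℕ, ∀ ν : Pic D.Y, (∀ j, |LocComb.dg (dH D.S) j ν| ≤ (B : ℤ)) →
      |Val.val (Curv2.euler k Z) (hullHom D hnorm ν) - chi k D.Y ν| ≤ (K : ℤ) := by
  obtain ⟨K, hK⟩ := K939.SurfHull.bound D hnorm B
  refine ⟨K, fun ν hν => ?_⟩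
  obtain ⟨L, hL, rfl⟩ := exists_mk ν
  rw [hullHom_mk, Val.val_cls euler_iso, chi_mk]
  exact hK L hL hν

/-- The instance of the abstract surface data. -/
theorem exists_inst (hnorm : Pi1.IsNormalScheme Z) (hdim : topologicalKrullDim Z = 2) :
    ∃ (D : K939.SurfGeo.Data k Z) (S : K424.AbsSurf.Data (Pic D.Y) (Ref1Set Z) D.r),
      S.Φ = Val.val (Curv2.euler k Z) ∧ S.χ = chi k D.Y := by
  obtain ⟨D⟩ := K939.SurfGeo.exists_data (k := k) hnorm hdim
  have hN := VarietyA.TwistExist.isNoetherian k D.Y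
  exact ⟨D, {
    χ := chi k D.Y
    dot_mul := dot_mul_left k D.Y D.dim.le
    E := LocGeom.E D.S
    dg := dH D.S
    dot_E := fun j a => dot_E D.S j a
    a := D.a
    apos := D.apos
    off := D.off
    pos := D.pos
    hull := hullHom D hnorm
    hull_surj := hullHom_surjective D hnorm
    hull_E := hullHom_E D hnorm
    Φ := Val.val (Curv2.euler k Z)
    bound := bound D hnorm }, rfl, rfl⟩

end Main

end K938.Inst
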