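import Mathlib.LinearAlgebra.Matrix.Determinant.Basic
import Mathlib.LinearAlgebra.Matrix.ToLinearEquiv
import Mathlib.RingTheory.Length
import Mathlib.Data.ENat.Basic

/-!
# Combinatorics of the exceptional curves of a surface singularity

`D j i` is the degree of the ideal of the `i`-th curve on the `j`-th curve; `D j i ≤ 0` for `i ≠ j`, and
`∑ i, D j i * a i > 0` for some positive vector `a`.
* `laufer`: a vector with a positive entry has positive image at a positive entry;
* `det_ne_zero`;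
* `h1_bound`, `h0_bound`: uniform bounds by induction along a Laufer path.
-/

set_option autoImplicit false
set_option linter.unusedSectionVars false

open Finset

namespace K938.LocComb

section Matrix

variable {ι : Type*} [Fintype ι] [DecidableEq ι] {M : Matrix ι ι ℚ} {a : ι → ℚ}

/-- Laufer's lemma. -/
theorem laufer (hoff : ∀ i j, i ≠ j → M j i ≤ 0) (ha : ∀ i, 0 < a i) (hpos : ∀ j, 0 < ∑ i, M j i * a i)
    (v : ι → ℚ) (hv : ∃ i, 0 < v i) : ∃ j, 0 < v j ∧ 0 < ∑ i, M j i * v i := by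
  obtain ⟨i₀, hi₀⟩ := hv
  obtain ⟨j, -, hj⟩ := Finset.exists_max_image (Finset.univ : Finset ι) (fun i => v i / a i) ⟨i₀, mem_univ _⟩
  have h1 : 0 < v j / a j := lt_of_lt_of_le (div_pos hi₀ (ha i₀)) (hj i₀ (mem_univ _))
  have hvj : 0 < v j := by
    have := mul_pos h1 (ha j)
    rwa [div_mul_cancel₀ _ (ha j).ne'] at this
  have h2 : ∀ i, v i * a j ≤ v j * a i := fun i => by
    have := hj i (mem_univ _)
    rwa [div_le_div_iff₀ (ha i) (ha j)] at this
  refine ⟨j, hvj, ?_⟩
  have h3 : v j * ∑ i, M j i * a i ≤ a j * ∑ i, M j i * v i := by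
    rw [Finset.mul_sum, Finset.mul_sum]
    refine Finset.sum_le_sum fun i _ => ?_
    by_cases hij : i = j
    · subst hij
      exact le_of_eq (by ring)
    · have h4 := mul_le_mul_of_nonpos_left (h2 i) (hoff i j hij)
      nlinarith [h4]
  have h5 : 0 < a j * ∑ i, M j i * v i := lt_of_lt_of_le (mul_pos hvj (hpos j)) h3
  exact (mul_pos_iff_of_pos_left (ha j)).mp h5

theorem det_ne_zero (hoff : ∀ i j, i ≠ j → M j i ≤ 0) (ha : ∀ i, 0 < a i) (hpos : ∀ j, 0 < ∑ i, M j i * a i) :
    M.det ≠ 0 := by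
  intro h
  obtain ⟨v, hv0, hv⟩ := Matrix.exists_mulVec_eq_zero_iff.mpr h
  have key : ∀ w : ι → ℚ, M.mulVec w = 0 → ¬ ∃ i, 0 < w i := by
    intro w hw hpos'
    obtain ⟨j, -, hj⟩ := laufer hoff ha hpos w hpos'
    have : (M.mulVec w) j = 0 := by rw [hw]; rfl
    rw [Matrix.mulVec, dotProduct] at this
    linarith
  have h1 := key v hv
  have h2 := key (-v) (by rw [Matrix.mulVec_neg, hv, neg_zero])
  apply hv0
  funext i
  by_contra hne
  rcases lt_or_gt_of_ne hne with h | h
  · exact h2 ⟨i, by simpa using h⟩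
  · exact h1 ⟨i, h⟩

end Matrix

section Group

variable {G : Type*} [CommGroup G] {ι : Type*} [Fintype ι] [DecidableEq ι] (E : ι → G)

/-- The product of the `E i` with exponents `v`. -/
def tw (v : ι → ℕ) : G := ∏ i, E i ^ v i

@[simp] theorem tw_zero : tw E 0 = 1 := by simp [tw]

theorem tw_add (v w : ι → ℕ) : tw E (v + w) = tw E v * tw E w := by
  simp [tw, pow_add, Finset.prod_mul_distrib]

theorem tw_single (j : ι) : tw E (Pi.single j 1) = E j := by
  rw [tw, Finset.prod_eq_single j]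
  · simp
  · intro i _ hij
    rw [Pi.single_eq_of_ne hij, pow_zero]
  · simp

theorem tw_add_single (v : ι → ℕ) (j : ι) : tw E (v + Pi.single j 1) = tw E v * E j := by
  rw [tw_add, tw_single]

variable (d : ι → G →* Multiplicative ℤ)

/-- The degree. -/
def dg (j : ι) (x : G) : ℤ := Multiplicative.toAdd (d j x)

theorem dg_mul (j : ι) (x y : G) : dg d j (x * y) = dg d j x + dg d j y := by
  simp [dg]

theorem dg_one (j : ι) : dg d j 1 = 0 := by simp [dg]

theorem dg_inv (j : ι) (x : G) : dg d j x⁻¹ = - dg d j x := by simp [dg]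

theorem dg_pow (j : ι) (x : G) (n : ℕ) : dg d j (x ^ n) = n * dg d j x := by simp [dg]

theorem dg_tw (j : ι) (v : ι → ℕ) : dg d j (tw E v) = ∑ i, (v i : ℤ) * dg d j (E i) := by
  simp [dg, tw, toAdd_prod]

variable {a : ι → ℕ}

/-- Laufer's lemma in the integral form. -/
theorem laufer' (hoff : ∀ i j, i ≠ j → dg d j (E i) ≤ 0) (ha : ∀ i, 0 < a i) (hpos : ∀ j, 0 < dg d j (tw E a))
    (v : ι → ℕ) (hv : v ≠ 0) : ∃ j, 0 < v j ∧ 0 < dg d j (tw E v) := by
  obtain ⟨i₀, hi₀⟩ : ∃ i, v i ≠ 0 := by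
    by_contra h
    push Not at h
    exact hv (funext h)
  have conv : ∀ (w : ι → ℕ) (j : ι), ((dg d j (tw E w) : ℤ) : ℚ) = ∑ i, ((dg d j (E i) : ℤ) : ℚ) * (w i : ℚ) := by
    intro w j
    rw [dg_tw]
    push_cast
    exact Finset.sum_congr rfl fun i _ => mul_comm _ _
  obtain ⟨j, hj, hj'⟩ := laufer (M := Matrix.of fun j i => ((dg d j (E i) : ℤ) : ℚ)) (a := fun i => (a i : ℚ))
    (fun i j hij => by simpa using hoff i j hij) (fun i => by exact_mod_cast ha i)
    (fun j => by
      have := hpos j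
      have h2 : (0 : ℚ) < ((dg d j (tw E a) : ℤ) : ℚ) := by exact_mod_cast this
      rw [conv] at h2
      exact h2) (fun i => (v i : ℚ)) ⟨i₀, by exact_mod_cast Nat.pos_of_ne_zero hi₀⟩
  refine ⟨j, by exact_mod_cast hj, ?_⟩
  have h2 : (0 : ℚ) < ((dg d j (tw E v) : ℤ) : ℚ) := by
    rw [conv]
    exact hj'
  exact_mod_cast h2

/-- The intersection matrix is invertible. -/
theorem det_ne_zero' (hoff : ∀ i j, i ≠ j → dg d j (E i) ≤ 0) (ha : ∀ i, 0 < a i)
    (hpos : ∀ j, 0 < dg d j (tw E a)) : (Matrix.of fun j i => dg d j (E i)).det ≠ 0 := by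
  have h := det_ne_zero (M := Matrix.of fun j i => ((dg d j (E i) : ℤ) : ℚ)) (a := fun i => (a i : ℚ))
    (fun i j hij => by simpa using hoff i j hij) (fun i => by exact_mod_cast ha i)
    (fun j => by
      have h2 : (0 : ℚ) < ((dg d j (tw E a) : ℤ) : ℚ) := by exact_mod_cast hpos j
      rw [dg_tw] at h2
      push_cast at h2
      simpa [mul_comm] using h2)
  intro h0
  apply h
  have h1 := congrArg (Int.castRingHom ℚ) h0
  rw [map_zero, RingHom.map_det] at h1
  exact h1

theorem exists_pred (v : ι → ℕ) (j : ι) (hj : 0 < v j) : ∃ w : ι → ℕ, v = w + Pi.single j 1 ∧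
    ∑ i, v i = ∑ i, w i + 1 := by
  refine ⟨fun i => v i - (Pi.single j 1 : ι → ℕ) i, ?_, ?_⟩
  · funext i
    by_cases hij : i = j
    · subst hij
      simp only [Pi.add_apply, Pi.single_eq_same]
      omega
    · simp [Pi.single_eq_of_ne hij]
  · have h1 : ∀ i, v i = (v i - (Pi.single j 1 : ι → ℕ) i) + (Pi.single j 1 : ι → ℕ) i := by
      intro i
      by_cases hij : i = j
      · subst hij
        simp only [Pi.single_eq_same]
        omega
      · simp [Pi.single_eq_of_ne hij]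
    calc ∑ i, v i = ∑ i, ((v i - (Pi.single j 1 : ι → ℕ) i) + (Pi.single j 1 : ι → ℕ) i) :=
          Finset.sum_congr rfl fun i _ => h1 i
      _ = _ := by
        rw [Finset.sum_add_distrib, Finset.sum_pi_single']
        simp

/-! ### The first cohomology -/

section H1

variable {E d} {h1 : G → ℕ∞} {g1 : ι → G → ℕ∞} {c : ℤ}

theorem h1_vanish (hoff : ∀ i j, i ≠ j → dg d j (E i) ≤ 0) (ha : ∀ i, 0 < a i) (hpos : ∀ j, 0 < dg d j (tw E a))
    (hstep : ∀ j ν, h1 ν ≤ h1 (ν * E j) + g1 j ν) (hvan : ∀ j ν, c ≤ dg d j ν → g1 j ν = 0)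
    (hserre : ∀ ν, ∃ v, h1 (ν * tw E v) = 0) (ν : G)
    (hν : ∀ j, c + ∑ i, |dg d i (E i)| ≤ dg d j ν) : h1 ν = 0 := by
  obtain ⟨v, hv⟩ := hserre ν
  induction hn : ∑ i, v i generalizing v with
  | zero =>
    have : v = 0 := by
      funext i
      exact Finset.sum_eq_zero_iff.mp hn i (mem_univ _)
    rw [this, tw_zero, mul_one] at hv
    exact hv
  | succ n ih =>
    have hv0 : v ≠ 0 := by
      rintro rfl
      simp at hn
    obtain ⟨j, hj, hj'⟩ := laufer' E d hoff ha hpos v hv0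
    obtain ⟨w, hw, hw'⟩ := exists_pred v j hj
    refine ih w ?_ (by omega)
    have e1 := hstep j (ν * tw E w)
    have e2 : ν * tw E w * E j = ν * tw E v := by rw [hw, tw_add_single, mul_assoc]
    rw [e2, hv, zero_add] at e1
    have e3 : g1 j (ν * tw E w) = 0 := by
      apply hvan
      have e4 : dg d j (tw E v) = dg d j (tw E w) + dg d j (E j) := by rw [hw, tw_add_single, dg_mul]
      have e5 : |dg d j (E j)| ≤ ∑ i, |dg d i (E i)| :=
        Finset.single_le_sum (f := fun i => |dg d i (E i)|) (fun i _ => abs_nonneg _) (mem_univ j)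
      have e6 := le_abs_self (dg d j (E j))
      have e7 := hν j
      rw [dg_mul]
      omega
    rw [e3] at e1
    exact le_antisymm e1 zero_le

theorem h1_path (hstep : ∀ j ν, h1 ν ≤ h1 (ν * E j) + g1 j ν) (K : ℕ∞) (ν : G) (v : ι → ℕ)
    (hK : ∀ j w, w ≤ v → g1 j (ν * tw E w) ≤ K) : h1 ν ≤ h1 (ν * tw E v) + (∑ i, v i : ℕ) * K := by
  induction hn : ∑ i, v i generalizing v with
  | zero =>
    have : v = 0 := by
      funext i
      exact Finset.sum_eq_zero_iff.mp hn i (mem_univ _)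
    rw [this, tw_zero, mul_one]
    exact le_self_add
  | succ n ih =>
    obtain ⟨j, hj⟩ : ∃ j, 0 < v j := by
      by_contra h
      push Not at h
      have : ∑ i, v i = 0 := Finset.sum_eq_zero fun i _ => Nat.le_zero.mp (h i)
      omega
    obtain ⟨w, hw, hw'⟩ := exists_pred v j hj
    have hwv : w ≤ v := by
      rw [hw]
      exact le_self_add
    have e0 := ih w (fun i u hu => hK i u (hu.trans hwv)) (by omega)
    have e1 := hstep j (ν * tw E w)
    have e2 : ν * tw E w * E j = ν * tw E v := by rw [hw, tw_add_single, mul_assoc]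
    rw [e2] at e1
    calc h1 ν ≤ h1 (ν * tw E w) + (n : ℕ) * K := e0
      _ ≤ (h1 (ν * tw E v) + K) + (n : ℕ) * K := by
        gcongr
        exact e1.trans (by gcongr; exact hK j w hwv)
      _ = h1 (ν * tw E v) + ((n + 1 : ℕ) : ℕ∞) * K := by
        push_cast
        ring

theorem abs_dg_tw_le (j : ι) (v w : ι → ℕ) (h : w ≤ v) :
    |dg d j (tw E w)| ≤ ∑ k, ∑ i, (v i : ℤ) * |dg d k (E i)| := by
  rw [dg_tw]
  have h1 : |∑ i, (w i : ℤ) * dg d j (E i)| ≤ ∑ i, (v i : ℤ) * |dg d j (E i)| := by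
    refine (Finset.abs_sum_le_sum_abs _ _).trans (Finset.sum_le_sum fun i _ => ?_)
    rw [abs_mul, Nat.abs_cast]
    exact mul_le_mul_of_nonneg_right (by exact_mod_cast h i) (abs_nonneg _)
  exact h1.trans (Finset.single_le_sum (f := fun k => ∑ i, (v i : ℤ) * |dg d k (E i)|)
    (fun k _ => Finset.sum_nonneg fun i _ => mul_nonneg (by positivity) (abs_nonneg _)) (mem_univ j))

/-- **Uniform bound for the first cohomology.** -/
theorem h1_bound (hoff : ∀ i j, i ≠ j → dg d j (E i) ≤ 0) (ha : ∀ i, 0 < a i) (hpos : ∀ j, 0 < dg d j (tw E a))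
    (hstep : ∀ j ν, h1 ν ≤ h1 (ν * E j) + g1 j ν) (hvan : ∀ j ν, c ≤ dg d j ν → g1 j ν = 0)
    (hbd : ∀ B : ℕ, ∃ K : ℕ, ∀ j ν, |dg d j ν| ≤ B → g1 j ν ≤ K)
    (hserre : ∀ ν, ∃ v, h1 (ν * tw E v) = 0) (B : ℕ) :
    ∃ K : ℕ, ∀ ν, (∀ j, |dg d j ν| ≤ B) → h1 ν ≤ K := by
  set c' := c + ∑ i, |dg d i (E i)| with hc'
  set n := (c' + B).toNat with hn
  set v : ι → ℕ := fun i => n * a i with hv
  set S := ∑ k, ∑ i, (v i : ℤ) * |dg d k (E i)| with hS
  obtain ⟨K, hK⟩ := hbd (B + S.toNat)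
  refine ⟨(∑ i, v i) * K, fun ν hν => ?_⟩
  have hS0 : 0 ≤ S := Finset.sum_nonneg fun k _ => Finset.sum_nonneg fun i _ =>
    mul_nonneg (by positivity) (abs_nonneg _)
  have e1 : ∀ j, dg d j (tw E v) = n * dg d j (tw E a) := by
    intro j
    rw [dg_tw, dg_tw, Finset.mul_sum]
    refine Finset.sum_congr rfl fun i _ => ?_
    simp only [hv]
    push_cast
    ring
  have e2 : h1 (ν * tw E v) = 0 := by
    refine h1_vanish hoff ha hpos hstep hvan hserre _ fun j => ?_
    rw [dg_mul, e1]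
    have h1 := (abs_le.mp (hν j)).1
    have h2 : (n : ℤ) ≤ n * dg d j (tw E a) := le_mul_of_one_le_right (by positivity) (hpos j)
    have h3 : c' + B ≤ n := Int.self_le_toNat _
    omega
  have e3 := h1_path hstep (K : ℕ∞) ν v (fun j w hw => hK j _ ?_)
  · rw [e2, zero_add] at e3
    exact_mod_cast e3
  · have h1 := abs_dg_tw_le (E := E) (d := d) j v w hw
    have h2 := hν j
    rw [dg_mul]
    have h3 := abs_add_le (dg d j ν) (dg d j (tw E w))
    push_cast
    rw [Int.toNat_of_nonneg hS0]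
    linarith

end H1

/-! ### Sections -/

section H0

variable {E d} {g0 : ι → G → ℕ∞}

theorem h0_path {R T : Type*} [Ring R] [AddCommGroup T] [Module R T] (S : (ι → ℕ) → Submodule R T)
    (hS0 : S 0 = ⊥) (K : ℕ∞) (v : ι → ℕ)
    (hstep : ∀ j w, w + Pi.single j 1 ≤ v →
      Module.length R (S (w + Pi.single j 1)) ≤ Module.length R (S w) + K) :
    Module.length R (S v) ≤ (∑ i, v i : ℕ) * K := by
  induction hn : ∑ i, v i generalizing v with
  | zero =>
    have : v = 0 := by
      funext i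
      exact Finset.sum_eq_zero_iff.mp hn i (mem_univ _)
    rw [this, hS0, Module.length_eq_zero]
    exact zero_le
  | succ n ih =>
    obtain ⟨j, hj⟩ : ∃ j, 0 < v j := by
      by_contra h
      push Not at h
      have : ∑ i, v i = 0 := Finset.sum_eq_zero fun i _ => Nat.le_zero.mp (h i)
      omega
    obtain ⟨w, hw, hw'⟩ := exists_pred v j hj
    have hwv : w ≤ v := by
      rw [hw]
      exact le_self_add
    have e0 := ih w (fun i u hu => hstep i u (hu.trans hwv)) (by omega)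
    have e1 := hstep j w hw.ge
    rw [← hw] at e1
    calc Module.length R (S v) ≤ Module.length R (S w) + K := e1
      _ ≤ (n : ℕ) * K + K := by gcongr
      _ = ((n + 1 : ℕ) : ℕ∞) * K := by push_cast; ring

/-- **Uniform bound for the sections with poles.** -/
theorem h0_bound (hoff : ∀ i j, i ≠ j → dg d j (E i) ≤ 0) (ha : ∀ i, 0 < a i) (hpos : ∀ j, 0 < dg d j (tw E a))
    (hneg : ∀ j ν, dg d j ν < 0 → g0 j ν = 0)
    (hbd : ∀ B : ℕ, ∃ K : ℕ, ∀ j ν, |dg d j ν| ≤ B → g0 j ν ≤ K) (B : ℕ) :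
    ∃ K : ℕ, ∀ ν, (∀ j, |dg d j ν| ≤ B) → ∀ {R T : Type*} [Ring R] [AddCommGroup T] [Module R T]
      (S : (ι → ℕ) → Submodule R T), S 0 = ⊥ → Monotone S →
      (∀ j v, Module.length R (S (v + Pi.single j 1)) ≤
        Module.length R (S v) + g0 j (ν * (tw E (v + Pi.single j 1))⁻¹)) →
      (∀ j v, g0 j (ν * (tw E (v + Pi.single j 1))⁻¹) = 0 → S (v + Pi.single j 1) ≤ S v) →
      (∀ t, ∃ v, t ∈ S v) → Module.length R T ≤ K := by
  set v₀ : ι → ℕ := fun i => B * a i with hv₀
  set Sm := ∑ k, ∑ i, (v₀ i : ℤ) * |dg d k (E i)| with hSm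
  obtain ⟨K, hK⟩ := hbd (B + Sm.toNat)
  refine ⟨(∑ i, v₀ i) * K, fun ν hν R T _ _ _ S hS0 hmono hstep hzero htop => ?_⟩
  have hSm0 : 0 ≤ Sm := Finset.sum_nonneg fun k _ => Finset.sum_nonneg fun i _ =>
    mul_nonneg (by positivity) (abs_nonneg _)
  have e1 : ∀ j, dg d j (tw E v₀) = B * dg d j (tw E a) := by
    intro j
    rw [dg_tw, dg_tw, Finset.mul_sum]
    refine Finset.sum_congr rfl fun i _ => ?_
    simp only [hv₀]
    push_cast
    ring
  -- above `v₀` nothing new
  have e2 : ∀ (n : ℕ) (w : ι → ℕ), ∑ i, w i = n → S (v₀ + w) ≤ S v₀ := by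
    intro n
    induction n with
    | zero =>
      intro w hw
      have : w = 0 := by
        funext i
        exact Finset.sum_eq_zero_iff.mp hw i (mem_univ _)
      rw [this, add_zero]
    | succ n ih =>
      intro w hw
      have hw0 : w ≠ 0 := by
        rintro rfl
        simp at hw
      obtain ⟨j, hj, hj'⟩ := laufer' E d hoff ha hpos w hw0
      obtain ⟨u, hu, hu'⟩ := exists_pred w j hj
      refine le_trans ?_ (ih u (by omega))
      have h3 : v₀ + w = (v₀ + u) + Pi.single j 1 := by rw [hu, add_assoc]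
      rw [h3]
      apply hzero
      apply hneg
      rw [← h3, dg_mul, dg_inv, tw_add, dg_mul, e1]
      have h1 := (abs_le.mp (hν j)).2
      have h2 : (B : ℤ) ≤ B * dg d j (tw E a) := le_mul_of_one_le_right (by positivity) (hpos j)
      omega
  have e3 : S v₀ = ⊤ := by
    rw [eq_top_iff]
    intro t _
    obtain ⟨v, hv⟩ := htop t
    exact e2 _ v rfl (hmono le_add_self hv)
  have e4 := h0_path S hS0 (K : ℕ∞) v₀ (fun j w hw => (hstep j w).trans (by
    gcongr
    apply hK
    have h1 := abs_dg_tw_le (E := E) (d := d) j v₀ _ hw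
    have h2 := hν j
    rw [dg_mul, dg_inv]
    have h3 := abs_add_le (dg d j ν) (-dg d j (tw E (w + Pi.single j 1)))
    rw [abs_neg] at h3
    push_cast
    rw [Int.toNat_of_nonneg hSm0]
    linarith))
  rw [e3, Module.length_top] at e4
  exact_mod_cast e4

end H0

end Group

end K938.LocComb
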