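import Groth.Agent.Fga.HodgeSec
import Groth.Agent.Dix.InterNum
import Groth.Agent.Grpsch.PicGrp
import Groth.Agent.CurvesC.CurveCoh
import Groth.Agent.S0051
import Groth.Agent.S1518
import Groth.Agent.S1530
import Groth.Agent.S1551

/-!
# Uniform bounds for the cohomology of invertible modules of bounded degree on an integral proper curve

* `h0_zero`: negative degree implies `H⁰ = 0`;
* `exists_vanish`: there is `c` such that `deg ≥ c` implies `H¹ = 0`;
* `exists_bound`: for every `B` there is `K` bounding `h⁰`, `h¹` for all invertible modules with `|deg| ≤ B`.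
-/

set_option autoImplicit false
universe u
open CategoryTheory CategoryTheory.Limits AlgebraicGeometry Opposite TopologicalSpace

namespace K938.LocCurve

open Groth.Agent Groth.Agent.Ega2 Groth.Agent.Fga Groth.Agent.Fga.RegSec Groth.Agent.VarietyA.EulerLES
  Groth.Agent.Fdesc.LocGen

variable (k : Type u) [Field k] (C : Scheme.{u}) [C.Over (Spec (CommRingCat.of k))]
  [IsIntegral C] [IsProper (C ↘ Spec (CommRingCat.of k))] (hdim : topologicalKrullDim C = 1)

include hdim in
theorem deg_eq (M : C.Modules) : Curv2.deg k C M 1 =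
    (Module.finrank k (Coh.HH C M 0) : ℤ) - Module.finrank k (Coh.HH C M 1) -
      Curv2.euler k C (Coh.structureModule C) := by
  unfold Curv2.deg
  rw [CurvesC.CurveCoh.euler_eq k C hdim M]
  ring

include hdim in
/-- Negative degree: no sections. -/
theorem h0_zero (M : C.Modules) (hM : PicF.IsInvertible M) (h : Curv2.deg k C M 1 < 0) :
    Subsingleton (Coh.HH C M 0) := by
  have := HodgeSec.finite_HH k hM 0
  by_contra hcon
  have hpos : 0 < Module.finrank k (Coh.HH C M 0) := by
    rw [Module.finrank_pos_iff]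
    exact not_subsingleton_iff_nontrivial.mp hcon
  obtain ⟨s, hs⟩ := HodgeSec.exists_section k hpos
  have := S1518.result k C hdim M hM s hs
  omega

include k hdim in
/-- If `N` has a nonzero section and `H¹(F) = 0` then `H¹(N ⊗ F) = 0`. -/
theorem h1_tensor (N F : C.Modules) (hN : PicF.IsInvertible N) (hF : PicF.IsInvertible F)
    (s : Coh.structureModule C ⟶ N) (hs : s ≠ 0) (h : Subsingleton (Coh.HH C F 1)) :
    Subsingleton (Coh.HH C (CohB1.tensorMod N F) 1) := by
  have := VarietyA.TwistExist.isNoetherian k C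
  have hFc := HodgeSec.isCoh_of_isInvertible hF
  have hNFc := HodgeSec.isCoh_of_isInvertible (isInvertible_tensorMod hN hF)
  have hη := HodgeSec.genericPoint_notMem_support hN hFc s hs
  have hc : Coh.IsCoh (cokernel (mulS s F)) := CohqB.SerTw.isCoh_cokernel _ hFc.1 hNFc
  have hcl : IsClosed (CohB1.support (cokernel (mulS s F))) := Groth.Agent.S0020.result C _ hc.2
  have hne : CohB1.support (cokernel (mulS s F)) ≠ Set.univ := by
    intro h
    rw [h] at hη
    exact hη (Set.mem_univ _)
  have huniv : topologicalKrullDim (Set.univ : Set C) < ((1 + 1 : ℕ) : WithBot ℕ∞) := by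
    have h1 : topologicalKrullDim (Set.univ : Set C) ≤ topologicalKrullDim C :=
      Topology.IsInducing.subtypeVal.topologicalKrullDim_le
    exact lt_of_le_of_lt (h1.trans hdim.le) (by exact_mod_cast Nat.lt_succ_self 1)
  have hd : topologicalKrullDim (CohB1.support (cokernel (mulS s F))) < ((1 : ℕ) : WithBot ℕ∞) :=
    DimLt.topologicalKrullDim_lt (A := Set.univ) (irreducibleSpace_def C |>.mp inferInstance) hcl
      (Set.subset_univ _) hne huniv
  have h1 : Subsingleton (Coh.HH C (cokernel (mulS s F)) 1) :=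
    HodgeSec.subsingleton_HH_of_support k hc 0 (IntNum0.withBot_le_of_lt_succ (r := 0) hd) 1 (by norm_num)
  refine subsingleton_of_forall_eq 0 fun x => ?_
  obtain ⟨y, hy⟩ := (exactA₂ k _ (HodgeSec.seq_shortExact hN hF s hs) 1 x).mp (h1.elim _ _)
  have hy0 : y = 0 := h.elim y 0
  rw [← hy, hy0]
  exact map_zero (mapA k (HodgeSec.seq F s).f 1)

include k in
omit [IsIntegral C] [IsProper (C ↘ Spec (CommRingCat.of k))] in
theorem length_congr {M N : C.Modules} (e : M ≅ N) (i : ℕ) (h : Subsingleton (Coh.HH C M i)) :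
    Subsingleton (Coh.HH C N i) :=
  (VarietyA.EulerLES.equivA k e i).symm.injective.subsingleton

/-- Large degree: no first cohomology. -/
theorem exists_vanish (hdim : topologicalKrullDim C = 1) : ∃ c : ℤ, ∀ M : C.Modules, PicF.IsInvertible M →
    c ≤ Curv2.deg k C M 1 → Subsingleton (Coh.HH C M 1) := by
  have := VarietyA.TwistExist.isNoetherian k C
  have : C.IsSeparated := by
    have h : IsSeparated ((C ↘ Spec (CommRingCat.of k)) ≫ terminal.from _) := inferInstance
    rwa [terminal.comp_from, ← Scheme.isSeparated_iff] at h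
  obtain ⟨A, hA⟩ := S1551.result C hdim
  obtain ⟨n₀, hn⟩ := (S0051.result k C (C ↘ _) A hA.1).mp hA (Coh.structureModule C)
    (CurvesC.UnitCoh.isCoh_unit C)
  have h0 := hn n₀ le_rfl 1 one_pos
  have hP : PicF.IsInvertible (CohB1.tensorPow A n₀) := isInvertible_tensorPow hA.1 n₀
  generalize CohB1.tensorPow A n₀ = P at hP h0
  have h1 : Subsingleton (Coh.HH C P 1) := length_congr k C (Tens.lunit P) 1 h0
  obtain ⟨P', hP', ⟨e⟩⟩ := Grpsch.PicGrp.exists_inverse hP
  refine ⟨Curv2.deg k C P 1 - Curv2.euler k C (Coh.structureModule C) + 1, fun M hM hc => ?_⟩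
  have hT := isInvertible_tensorMod hM hP'
  have hdeg := Dix.InterNum.deg_tensor k C hdim hM hP'
  have hPP' := Dix.InterNum.deg_inverse k C hdim (M := P) (N := P') ⟨e⟩
  have hpos : 0 < Module.finrank k (Coh.HH C (CohB1.tensorMod M P') 0) := by
    have := deg_eq k C hdim (CohB1.tensorMod M P')
    omega
  obtain ⟨s, hs⟩ := HodgeSec.exists_section k hpos
  have h2 := h1_tensor k C hdim (CohB1.tensorMod M P') P hT hP s hs h1
  exact length_congr k C (Tens.assoc M P' P ≪≫ Tens.mapTIso (Iso.refl M) (Tens.swap P' P ≪≫ e) ≪≫ Tens.runit M) 1 h2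

/-- There are invertible modules of arbitrarily large degree with a nonzero section. -/
theorem exists_large (hdim : topologicalKrullDim C = 1) (b : ℤ) : ∃ N : C.Modules, PicF.IsInvertible N ∧
    b ≤ Curv2.deg k C N 1 ∧ ∃ s : Coh.structureModule C ⟶ N, s ≠ 0 := by
  have := VarietyA.TwistExist.isNoetherian k C
  have : C.IsSeparated := by
    have h : IsSeparated ((C ↘ Spec (CommRingCat.of k)) ≫ terminal.from _) := inferInstance
    rwa [terminal.comp_from, ← Scheme.isSeparated_iff] at h
  obtain ⟨A, hA⟩ := S1551.result C hdim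
  have hpos := (S1530.result k C hdim A hA.1).mp hA
  set t : ℕ := (max b (1 - Curv2.euler k C (Coh.structureModule C))).toNat with ht
  have hdeg := S1530.deg_tensorPow k hdim hA.1 t
  have h1 : (t : ℤ) ≤ (t : ℤ) * Curv2.deg k C A 1 := le_mul_of_one_le_right (by positivity) (by omega)
  have hN := isInvertible_tensorPow hA.1 t
  refine ⟨CohB1.tensorPow A t, hN, by omega, HodgeSec.exists_section k (L := CohB1.tensorPow A t) ?_⟩
  have := deg_eq k C hdim (CohB1.tensorPow A t)
  omega

/-- Uniform bounds for the cohomology in bounded degree. -/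
theorem exists_bound (hdim : topologicalKrullDim C = 1) (B : ℕ) : ∃ K : ℕ, ∀ M : C.Modules, PicF.IsInvertible M →
    |Curv2.deg k C M 1| ≤ B → Module.finrank k (Coh.HH C M 0) ≤ K ∧ Module.finrank k (Coh.HH C M 1) ≤ K := by
  obtain ⟨c, hc⟩ := exists_vanish k C hdim
  obtain ⟨N, hN, hNd, s, hs⟩ := exists_large k C hdim (c + B)
  refine ⟨(Curv2.deg k C N 1 + B + Curv2.euler k C (Coh.structureModule C)).toNat +
    (B + |Curv2.euler k C (Coh.structureModule C)|).toNat, fun M hM hB => ?_⟩
  have hdeg := Dix.InterNum.deg_tensor k C hdim hN hM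
  have hB' := abs_le.mp hB
  have h1 := hc (CohB1.tensorMod N M) (isInvertible_tensorMod hN hM) (by omega)
  have h2 := deg_eq k C hdim (CohB1.tensorMod N M)
  have h3 : Module.finrank k (Coh.HH C (CohB1.tensorMod N M) 1) = 0 := Module.finrank_zero_of_subsingleton
  have h4 := HodgeSec.finrank_zero_le k hN hM s hs
  have h5 := deg_eq k C hdim M
  have h6 := abs_nonneg (Curv2.euler k C (Coh.structureModule C))
  have h7 := neg_abs_le (Curv2.euler k C (Coh.structureModule C))
  constructor <;> omega

end K938.LocCurve
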