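import Groth.Agent.RefCh.K938.LocComb
import Groth.Agent.RefCh.K938.LocCurve
import Groth.Agent.Etcore.DegZero
import Groth.Agent.VarietyB.RestrSeq
import Groth.Agent.VarietyB.HHPush
import Groth.Agent.Dix.InterSurf
import Groth.Agent.S1604

/-!
# Proper curves with effective Cartier ideal on a scheme over a field

* `hLen` : length of cohomology as a function on `Pic`;
* `CurveData`, `E`, `dH` : curves `c_j : C_j → W`, the classes of their ideals, their degrees;
* `step`, `h1_bound` : uniform bound for `H¹` in bounded degree;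
* `off_le` : degrees of the ideals of the other curves are nonpositive.
-/

set_option autoImplicit false
universe u
open CategoryTheory CategoryTheory.Limits AlgebraicGeometry Opposite TopologicalSpace

namespace K938.LocGeom

open Groth.Agent Groth.Agent.Grpsch.PicGrp Groth.Agent.VarietyA.EulerLES Groth.Agent.Etcore.DegZero
  Groth.Agent.Fdesc.LocGen K938.LocComb

section Iso

variable {Z Z' W : Scheme.{u}}

/-- Push forward along an isomorphism is an equivalence. -/
theorem isEquivalence_push (e : Z ≅ Z') : (Scheme.Modules.pushforward e.hom).IsEquivalence := by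
  have h1 : Scheme.Modules.pushforward e.inv ⋙ Scheme.Modules.pushforward e.hom ≅ 𝟭 _ :=
    Scheme.Modules.pushforwardComp e.inv e.hom ≪≫ Scheme.Modules.pushforwardCongr e.inv_hom_id ≪≫
      Scheme.Modules.pushforwardId Z'
  have h2 : Scheme.Modules.pushforward e.hom ⋙ Scheme.Modules.pushforward e.inv ≅ 𝟭 _ :=
    Scheme.Modules.pushforwardComp e.hom e.inv ≪≫ Scheme.Modules.pushforwardCongr e.hom_inv_id ≪≫
      Scheme.Modules.pushforwardId Z
  exact (CategoryTheory.Equivalence.mk (Scheme.Modules.pushforward e.hom)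
    (Scheme.Modules.pushforward e.inv) h2.symm h1).isEquivalence_functor

/-- `M ≅ e_* e^* M`. -/
noncomputable def unitIso (e : Z ≅ Z') (M : Z'.Modules) :
    M ≅ (Scheme.Modules.pushforward e.hom).obj ((Scheme.Modules.pullback e.hom).obj M) := by
  have := isEquivalence_push e
  have : (Scheme.Modules.pullback e.hom).IsEquivalence :=
    (Scheme.Modules.pullbackPushforwardAdjunction e.hom).isEquivalence_left_of_isEquivalence_right
  exact asIso ((Scheme.Modules.pullbackPushforwardAdjunction e.hom).unit.app M)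

/-- `ι_* ι^* E ≅ i_* i^* E` if `i` and `ι` differ by an isomorphism of the sources. -/
theorem nonempty_pushPullIso (e : Z ≅ Z') (ι : Z' ⟶ W) (i : Z ⟶ W) (h : e.hom ≫ ι = i) (E : W.Modules) :
    Nonempty ((Scheme.Modules.pushforward ι).obj ((Scheme.Modules.pullback ι).obj E) ≅
      (Scheme.Modules.pushforward i).obj ((Scheme.Modules.pullback i).obj E)) := by
  subst h
  exact ⟨(Scheme.Modules.pushforward ι).mapIso (unitIso e ((Scheme.Modules.pullback ι).obj E)) ≪≫
    (Scheme.Modules.pushforwardComp e.hom ι).app _ ≪≫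
    (Scheme.Modules.pushforward (e.hom ≫ ι)).mapIso ((Scheme.Modules.pullbackComp e.hom ι).app E)⟩

end Iso

/-- `0 → L ⊗ I → L → i_* i^* L → 0` for a closed immersion `i` with ideal `I`, `L` invertible. -/
theorem exists_shortExact {Z W : Scheme.{u}} (i : Z ⟶ W) [IsClosedImmersion i] {L : W.Modules}
    (hL : PicF.IsInvertible L) :
    ∃ (M : W.Modules) (f : CohB1.tensorMod L (ClSub.idealMod i.ker) ⟶ L) (g : L ⟶ M) (h : f ≫ g = 0),
      (ShortComplex.mk f g h).ShortExact ∧
        Nonempty (M ≅ (Coh.push i).obj ((Scheme.Modules.pullback i).obj L)) := by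
  have hB := VarietyB.TensCoh.HasBases.of_isFinLocFreeOfRank
    (VarietyB.DegCartier.isFinLocFreeOfRank_one hL)
  exact ⟨_, _, _, _, VarietyB.RestrSeq.restrSeq_shortExact hB i.ker,
    nonempty_pushPullIso (asIso i.toImage) i.ker.subschemeι i i.toImage_imageι L⟩

variable (k : Type u) [Field k]

section Len

variable (W : Scheme.{u}) [W.Over (Spec (CommRingCat.of k))]

/-- Length of cohomology on the Picard group. -/
noncomputable def hLen (i : ℕ) (ν : Pic W) : ℕ∞ :=
  Quotient.lift (s := isoSetoid W) (fun L => Module.length k (Coh.HH W L.1 i))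
    (fun _ _ ⟨e⟩ => (equivA k e i).length_eq) ν

theorem hLen_mk (i : ℕ) {L : W.Modules} (hL : PicF.IsInvertible L) :
    hLen k W i (mk L hL) = Module.length k (Coh.HH W L i) := rfl

end Len

theorem length_le_of_exact {R A B C : Type*} [Ring R] [AddCommGroup A] [AddCommGroup B] [AddCommGroup C]
    [Module R A] [Module R B] [Module R C] (f : A →ₗ[R] B) (g : B →ₗ[R] C) (h : Function.Exact f g) :
    Module.length R B ≤ Module.length R A + Module.length R C := by
  have h1 : Module.length R B = Module.length R (LinearMap.ker g) + Module.length R (LinearMap.range g) :=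
    Module.length_eq_add_of_exact (LinearMap.ker g).subtype g.rangeRestrict (Submodule.subtype_injective _)
      g.surjective_rangeRestrict (by
        rw [LinearMap.exact_iff]
        simp)
  have h2 : Module.length R (LinearMap.ker g) ≤ Module.length R A := by
    rw [LinearMap.exact_iff.mp h]
    exact Module.length_le_of_surjective f.rangeRestrict f.surjective_rangeRestrict
  have h3 : Module.length R (LinearMap.range g) ≤ Module.length R C :=
    Module.length_le_of_injective (LinearMap.range g).subtype (Submodule.subtype_injective _)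
  rw [h1]
  exact add_le_add h2 h3

/-- Integral proper curves on `W` with effective Cartier ideals. -/
structure CurveData (W : Scheme.{u}) [W.Over (Spec (CommRingCat.of k))] (r : ℕ) where
  C : Fin r → Scheme.{u}
  ov : ∀ j, (C j).Over (Spec (CommRingCat.of k))
  int : ∀ j, IsIntegral (C j)
  prop : ∀ j, IsProper (C j ↘ Spec (CommRingCat.of k))
  dim : ∀ j, topologicalKrullDim (C j) = 1
  c : ∀ j, C j ⟶ W
  closed : ∀ j, IsClosedImmersion (c j)
  comm : ∀ j, c j ≫ (W ↘ Spec (CommRingCat.of k)) = C j ↘ Spec (CommRingCat.of k)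
  eff : ∀ j, BlowUp.IsEffCartierIdeal (c j).ker

attribute [instance] CurveData.ov CurveData.int CurveData.prop CurveData.closed

variable {k} {W : Scheme.{u}} [W.Over (Spec (CommRingCat.of k))] {r : ℕ} (S : CurveData k W r)

/-- The classes of the ideals. -/
noncomputable def E (j : Fin r) : Pic W :=
  mk (ClSub.idealMod (S.c j).ker) (Dix.IdealModCartier.isInvertible_idealMod (S.eff j))

/-- The degrees. -/
noncomputable def dH (j : Fin r) : Pic W →* Multiplicative ℤ :=
  (degHom k (S.C j) (S.dim j)).comp (pull (S.c j))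

theorem dg_eq (j : Fin r) (ν : Pic W) : LocComb.dg (dH S) j ν = Etcore.DegZero.dg k (S.C j) (pull (S.c j) ν) := rfl

theorem dg_mk_eq (j : Fin r) {L : W.Modules} (hL : PicF.IsInvertible L) :
    LocComb.dg (dH S) j (mk L hL) = Curv2.deg k (S.C j) ((Scheme.Modules.pullback (S.c j)).obj L) 1 := by
  rw [dg_eq, pull_mk, dg_mk, eulerCharLE_eq k _ (S.dim j), eulerCharLE_eq k _ (S.dim j), Curv2.deg]
  push_cast
  ring

theorem step (j : Fin r) (ν : Pic W) : hLen k W 1 ν ≤ hLen k W 1 (ν * E S j) + hLen k (S.C j) 1 (pull (S.c j) ν) := by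
  obtain ⟨L, hL, rfl⟩ := exists_mk ν
  rw [E, mk_mul_mk, hLen_mk, hLen_mk, pull_mk, hLen_mk]
  obtain ⟨M, f, g, w, hT, ⟨e⟩⟩ := exists_shortExact (S.c j) hL
  have h3 := length_le_of_exact _ _ (exactA₂ k _ hT 1)
  have hq : Coh.IsQCoh ((Scheme.Modules.pullback (S.c j)).obj L) :=
    Ega2.QCohLocal.isQCoh_of_isInvertible (isInvertible_pullback _ hL)
  obtain ⟨e'⟩ := VarietyB.HHPush.exists_linearEquiv (S.c j) k (S.comm j) _ hq 1
  rw [← e'.length_eq, ← (equivA k e 1).length_eq]
  exact h3

/-- A uniform constant beyond which `H¹` of the curves vanishes. -/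
theorem exists_c : ∃ c : ℤ, ∀ j (ν : Pic W), c ≤ LocComb.dg (dH S) j ν → hLen k (S.C j) 1 (pull (S.c j) ν) = 0 := by
  choose c hc using fun j => LocCurve.exists_vanish k (S.C j) (S.dim j)
  refine ⟨∑ j, |c j|, fun j ν h => ?_⟩
  obtain ⟨L, hL, rfl⟩ := exists_mk ν
  rw [dg_mk_eq] at h
  have h1 : c j ≤ ∑ j, |c j| := (le_abs_self _).trans
    (Finset.single_le_sum (f := fun j => |c j|) (fun i _ => abs_nonneg _) (Finset.mem_univ j))
  rw [pull_mk, hLen_mk, Module.length_eq_zero_iff]
  exact hc j _ (isInvertible_pullback _ hL) (h1.trans h)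

theorem length_le_of_finrank {M : Type*} [AddCommGroup M] [Module k M] [Module.Finite k M] {K : ℕ}
    (h : Module.finrank k M ≤ K) : Module.length k M ≤ K := by
  rw [Module.length_eq_finrank]
  exact_mod_cast h

theorem exists_K (B : ℕ) : ∃ K : ℕ, ∀ j (ν : Pic W), |LocComb.dg (dH S) j ν| ≤ B →
    hLen k (S.C j) 0 (pull (S.c j) ν) ≤ K ∧ hLen k (S.C j) 1 (pull (S.c j) ν) ≤ K := by
  choose K hK using fun j => LocCurve.exists_bound k (S.C j) (S.dim j) B
  refine ⟨∑ j, K j, fun j ν h => ?_⟩
  obtain ⟨L, hL, rfl⟩ := exists_mk ν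
  rw [dg_mk_eq] at h
  have h1 : K j ≤ ∑ j, K j := Finset.single_le_sum (f := K) (fun i _ => Nat.zero_le _) (Finset.mem_univ j)
  have hP := isInvertible_pullback (S.c j) hL
  have h2 := hK j _ hP h
  have hf := fun i => Fga.HodgeSec.finite_HH k hP i
  rw [pull_mk, hLen_mk, hLen_mk]
  exact ⟨length_le_of_finrank (h2.1.trans h1), length_le_of_finrank (h2.2.trans h1)⟩

/-- **Uniform bound for `H¹`.** -/
theorem h1_bound (a : Fin r → ℕ) (hoff : ∀ i j, i ≠ j → LocComb.dg (dH S) j (E S i) ≤ 0) (ha : ∀ i, 0 < a i)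
    (hpos : ∀ j, 0 < LocComb.dg (dH S) j (tw (E S) a))
    (hserre : ∀ ν, ∃ v, hLen k W 1 (ν * tw (E S) v) = 0) (B : ℕ) :
    ∃ K : ℕ, ∀ ν, (∀ j, |LocComb.dg (dH S) j ν| ≤ B) → hLen k W 1 ν ≤ K := by
  obtain ⟨c, hc⟩ := exists_c S
  refine LocComb.h1_bound (h1 := hLen k W 1) (g1 := fun j ν => hLen k (S.C j) 1 (pull (S.c j) ν)) (c := c)
    hoff ha hpos (step S) hc (fun B => ?_) hserre B
  obtain ⟨K, hK⟩ := exists_K S B
  exact ⟨K, fun j ν h => (hK j ν h).2⟩

/-- Degrees of the ideals of the other curves. -/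
theorem off_le (i j : Fin r) (h : S.c j (genericPoint (S.C j)) ∉ (S.c i).ker.support) :
    LocComb.dg (dH S) j (E S i) ≤ 0 := by
  have h1 := Dix.InterSurf.isEff_comap_of_generic (S.c j) (S.eff i) h
  obtain ⟨e⟩ := Dix.IdealModCartier.pullback_idealMod (S.c j) (S.eff i) h1
  have hI := Dix.IdealModCartier.isInvertible_idealMod h1
  obtain ⟨L, hL, ⟨eL⟩⟩ := exists_inverse hI
  have h2 := (S1604.result k (S.C j) (S.dim j).le _ h1 L hL ⟨Ega2.Tens.swap _ _ ≪≫ eL⟩ 1 (Coh.structureModule _)
    (VarietyB.DegCartier.isFinLocFreeOfRank_one isInvertible_structureModule)).2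
  have h3 : LocComb.dg (dH S) j (E S i) = Etcore.DegZero.dg k (S.C j) (mk (ClSub.idealMod ((S.c i).ker.comap (S.c j))) hI) := by
    rw [dg_eq, E, pull_mk]
    congr 1
    exact mk_congr e
  have h4 : mk (ClSub.idealMod ((S.c i).ker.comap (S.c j))) hI * mk L hL = 1 := by
    rw [mk_mul_mk, mk_eq_one_iff]
    exact ⟨eL⟩
  have h5 := congrArg (Etcore.DegZero.dg k (S.C j)) h4
  rw [dg_mul k _ (S.dim j), dg_one] at h5
  have h6 : Etcore.DegZero.dg k (S.C j) (mk L hL) = Curv2.deg k (S.C j) L 1 := by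
    rw [dg_mk, eulerCharLE_eq k _ (S.dim j), eulerCharLE_eq k _ (S.dim j), Curv2.deg]
    push_cast
    ring
  have h7 : Curv2.deg k (S.C j) (CohB1.tensorMod (Coh.structureModule _) L) 1 = Curv2.deg k (S.C j) L 1 :=
    Dix.InterNum.deg_congr k _ (S.dim j) (Ega2.Tens.lunit L)
  have h8 : Curv2.deg k (S.C j) (Coh.structureModule _) 1 = 0 := by
    unfold Curv2.deg
    simp
  rw [h7, h8] at h2
  rw [h3]
  have : (0 : ℤ) ≤ (Module.finrank k (Coh.HH (S.C j) (ClSub.quotMod ((S.c i).ker.comap (S.c j))) 0) : ℤ) := by positivity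
  push_cast at h2
  linarith

end K938.LocGeom
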